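import Cfsg.Agent.Lib.Char.Inertia
import Cfsg.Agent.Lib.Char.ExtendChar
import Cfsg.Agent.Lib.Block.Defect
import Mathlib.GroupTheory.Transfer

/-!
# Determinants of constituents on a normal subgroup of the derived group

If `N ≤ G'` is normal and `θ` lies under the irreducible `χ`, then an invariant power of the
determinant of `θ` is killed by `χ(1)/θ(1)`: transfer the determinant of the Clifford
correspondent back to `G`.
-/

set_option autoImplicit false
set_option linter.unusedSectionVars false

namespace CfsgLib.DegComp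

open Cfsg CfsgLib CfsgLib.Char Representation Module

universe u

/-- A representation with `e` times the character of `σ` has determinant `(det σ) ^ e`. -/
theorem det_of_char_eq_nsmul {H : Type u} [Group H] [Finite H] {a m : ℕ}
    (σ : Representation ℂ H (Fin a → ℂ)) (τ : Representation ℂ H (Fin m → ℂ)) {e : ℕ}
    (h : τ.character = fun x => (e : ℂ) * σ.character x) :
    detHom τ = detHom σ ^ e := by
  induction e generalizing m with
  | zero =>
    refine MonoidHom.ext fun x => Units.ext ?_
    have h1 := congrFun h 1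
    rw [Representation.char_one, Module.finrank_fin_fun, Nat.cast_zero, zero_mul,
      Nat.cast_eq_zero] at h1
    subst h1
    rw [detHom_coe, MonoidHom.pow_apply, pow_zero, Units.val_one]
    exact LinearMap.det_eq_one_of_subsingleton _
  | succ e ih =>
    obtain ⟨k, κ, hκ⟩ : ∃ (k : ℕ) (κ : Representation ℂ H (Fin k → ℂ)),
        κ.character = fun x => (e : ℂ) * σ.character x := by
      have h0 : IsCharacter H (e • σ.character) := isCharacter_natSmul ⟨a, σ, rfl⟩ e
      obtain ⟨k, κ, hκ⟩ := h0
      exact ⟨k, κ, hκ.trans (funext fun x => by simp [nsmul_eq_mul])⟩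
    obtain ⟨φ⟩ := nonempty_equiv_of_character_eq (κ.prod σ) τ (by
      rw [h]
      funext x
      rw [show (κ.prod σ).character x = κ.character x + σ.character x from
        LinearMap.trace_prodMap' (κ x) (σ x), hκ, Nat.cast_succ]
      ring)
    refine MonoidHom.ext fun x => Units.ext ?_
    rw [detHom_coe, det_eq_of_equiv φ, MonoidHom.pow_apply, pow_succ, ← MonoidHom.pow_apply, ← ih κ hκ,
      Units.val_mul, detHom_coe, detHom_coe]
    exact LinearMap.det_prodMap (κ x) (σ x)

variable {G : Type u} [Group G] [Fintype G]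

/-- The transfer of a homomorphism whose restriction to a normal subgroup is invariant. -/
theorem hom_pow_index_eq_one {T : Subgroup G} {A : Type*} [CommGroup A] (F : T →* A)
    {x : G} (hx : x ∈ commutator G) (hnT : ∀ g : G, g * x * g⁻¹ ∈ T)
    (hinv : ∀ g : G, F ⟨g * x * g⁻¹, hnT g⟩ = F ⟨x, by simpa using hnT 1⟩) :
    F ⟨x, by simpa using hnT 1⟩ ^ T.index = 1 := by
  classical
  have h1 : MonoidHom.transfer F x = 1 :=
    MonoidHom.mem_ker.1 (Abelianization.commutator_subset_ker (MonoidHom.transfer F) hx)
  rw [← h1]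
  let S : T.LeftTransversal := default
  rw [MonoidHom.transfer_def F S x, Subgroup.leftTransversals.diff]
  have hfix : ∀ q : G ⧸ T, x⁻¹ • q = q := fun q => QuotientGroup.induction_on q fun g => by
    rw [MulAction.Quotient.smul_mk, QuotientGroup.eq, smul_eq_mul, mul_inv_rev, inv_inv]
    simpa using hnT g⁻¹
  symm
  let := T.fintypeQuotientOfFiniteIndex
  refine Eq.trans (Finset.prod_congr rfl (g := fun _ => F ⟨x, by simpa using hnT 1⟩) fun q _ => ?_) ?_
  · refine (congrArg F (Subtype.ext ?_)).trans (hinv ((S.2.leftQuotientEquiv q : G))⁻¹)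
    show (S.2.leftQuotientEquiv q : G)⁻¹ * ((x • S).2.leftQuotientEquiv q : G) = _
    rw [Subgroup.smul_apply_eq_smul_apply_inv_smul, hfix, smul_eq_mul]
    simp only [inv_inv, mul_assoc]
  · rw [Finset.prod_const, Finset.card_univ, Subgroup.index, Nat.card_eq_fintype_card]

variable (N : Subgroup G) [N.Normal] [Fintype N]

/-- An invariant power of the determinant of a constituent is killed by the degree ratio. -/
theorem det_pow_ratio (hNG : N ≤ commutator G) {χ : G → ℂ} (hχ : IsIrrCharacter G χ) {c a : ℕ}
    (hc : χ 1 = (c : ℂ)) (ρ : Representation ℂ N (Fin a → ℂ)) [ρ.IsIrreducible]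
    (hcon : classInner (fun n : N => χ n) ρ.character ≠ 0) :
    ∃ e : ℕ, c = a * e ∧ (inertia N ρ.character).index ∣ e ∧
      ∀ k : ℕ, (∀ (g : G) (n : N), (detHom ρ ^ k) (normalConjHom N g n) = (detHom ρ ^ k) n) →
        (detHom ρ ^ k) ^ e = 1 := by
  classical
  have hθ : IsIrrCharacter N ρ.character := ⟨a, ρ, inferInstance, rfl⟩
  have hNT : N ≤ inertia N ρ.character :=
    le_inertia N (isClassFunction_of_isCharacter (isCharacter_of_isIrr hθ))
  set T := inertia N ρ.character with hT
  have := Fintype.ofFinite T
  obtain ⟨ψ, hψ, hχψ, hψN⟩ := exists_inertia_correspondent_inner N hχ hθ hcon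
  obtain ⟨e, he⟩ := classInner_char_irr_nat
    (isCharacter_comp (isCharacter_of_isIrr hχ) N.subtype) ⟨ρ.character, hθ⟩
  replace he : classInner (fun n : N => χ n) ρ.character = (e : ℂ) := he
  have ha : ρ.character 1 = (a : ℂ) := by rw [Representation.char_one, Module.finrank_fin_fun]
  have hc' : c = a * (T.index * e) := by
    have h := clifford_degree N hχ hθ hcon
    rw [hc, he, ha, ← hT] at h
    rw [show a * (T.index * e) = e * T.index * a by ring]
    exact_mod_cast h
  refine ⟨T.index * e, hc', dvd_mul_right _ _, fun k hinv => ?_⟩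
  obtain ⟨b, τ, hτ, rfl⟩ := id hψ
  have hb : b = a * e := by
    have h := congrFun hχψ 1
    rw [hc, indFun_one, Representation.char_one, Module.finrank_fin_fun, ← hT, hc'] at h
    have h' : a * (T.index * e) = T.index * b := by exact_mod_cast h
    refine Nat.eq_of_mul_eq_mul_left (Nat.pos_of_ne_zero T.index_ne_zero_of_finite) ?_
    rw [← h']; ring
  let j : N →* T := Subgroup.inclusion hNT
  let τN : Representation ℂ N (Fin b → ℂ) := τ.comp j
  have hres : τN.character = fun x => (e : ℂ) * ρ.character x := by
    have hchar : IsCharacter N τN.character := ⟨b, τN, rfl⟩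
    have hinner : classInner τN.character ρ.character = (e : ℂ) := (hψN hNT).trans he
    have := Fintype.ofFinite (IrrCharacter N)
    choose m hm using classInner_char_irr_nat hchar
    choose d hd hde using fun φ : IrrCharacter N => isIrrCharacter_degree φ.2
    have hexp : τN.character = ∑ φ : IrrCharacter N, (m φ : ℂ) • (φ : N → ℂ) := by
      conv_lhs => rw [classFun_expand (isClassFunction_of_isCharacter hchar)]
      simp only [hm]
    have hsum : ∑ φ : IrrCharacter N, m φ * d φ = b := by
      have h := congrFun hexp 1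
      simp only [Finset.sum_apply, Pi.smul_apply, smul_eq_mul, hde] at h
      rw [Representation.char_one, Module.finrank_fin_fun] at h
      exact_mod_cast h.symm
    let θ0 : IrrCharacter N := ⟨ρ.character, hθ⟩
    have hm0 : m θ0 = e := by exact_mod_cast (hm θ0).symm.trans hinner
    have hd0 : d θ0 = a := by exact_mod_cast (hde θ0).symm.trans ha
    rw [← Finset.add_sum_erase _ _ (Finset.mem_univ θ0), hm0, hd0] at hsum
    have hz : ∑ φ ∈ Finset.univ.erase θ0, m φ * d φ = 0 := by
      have : e * a = b := by rw [hb, mul_comm]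
      omega
    funext x
    rw [hexp, Finset.sum_apply, Finset.sum_eq_single θ0]
    · simp [hm0, θ0]
    · intro φ _ hne
      have := (Nat.mul_eq_zero.1 (Finset.sum_eq_zero_iff.1 hz φ
        (Finset.mem_erase.2 ⟨hne, Finset.mem_univ φ⟩))).resolve_right (hd φ).ne'
      simp [this]
    · exact fun h => absurd (Finset.mem_univ θ0) h
  have hdet := det_of_char_eq_nsmul ρ τN hres
  refine MonoidHom.ext fun n => ?_
  have hFn : ∀ y : N, (detHom τ ^ k) (j y) = ((detHom ρ ^ k) y) ^ e := fun y => by
    have h : detHom τ (j y) = detHom ρ y ^ e := by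
      rw [← MonoidHom.pow_apply, ← hdet]; rfl
    simp only [MonoidHom.pow_apply, h, ← pow_mul, mul_comm e k]
  have hmem : ∀ g : G, g * (n : G) * g⁻¹ ∈ T := fun g =>
    hNT ((inferInstance : N.Normal).conj_mem _ n.2 g)
  have key := hom_pow_index_eq_one (detHom τ ^ k) (hNG n.2) hmem (fun g => by
    show (detHom τ ^ k) (j (normalConjHom N g n)) = (detHom τ ^ k) (j n)
    rw [hFn, hFn, hinv g n])
  rw [MonoidHom.pow_apply, MonoidHom.one_apply, mul_comm T.index e, pow_mul, ← hFn]
  exact key

end CfsgLib.DegComp
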