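import Cfsg.Prelude.Def_DegreeGraph
import Cfsg.Agent.Lib.DegComp.Determinant
import Cfsg.Agent.Lib.Char.Gallagher
import Cfsg.Agent.Lib.Char.DegreeRatio
import Cfsg.Agent.Lib.Char.InvariantAbove
import Cfsg.Agent.Lib.Char.ExtendCriteria
import Mathlib.Combinatorics.SimpleGraph.Connectivity.Connected
import Mathlib.GroupTheory.FiniteAbelian.Duality
import Mathlib.Analysis.Complex.Polynomial.Basic
import Mathlib.RingTheory.RootsOfUnity.AlgebraicallyClosed

/-!
# The common-divisor graph of relative degrees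

For `N ≤ G'` normal with `N' < N` the common-divisor graph of the degrees of `G` over `N` has at
most two components; if there are two, then every prime of `|N : N'|` divides exactly the degrees
of one of them.
-/

set_option autoImplicit false
set_option linter.unusedSectionVars false

namespace CfsgLib.DegComp

open Cfsg CfsgLib CfsgLib.Char Representation Module

universe u

variable {G : Type u} [Group G] (N : Subgroup G) [N.Normal]

theorem hom_pow_mul (f : N →* ℂˣ) (m k : ℕ) : (f ^ m) ^ k = f ^ (m * k) :=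
  MonoidHom.ext fun n => by simp [MonoidHom.pow_apply, pow_mul]

theorem hom_mul_pow (f h : N →* ℂˣ) (k : ℕ) : (f * h) ^ k = f ^ k * h ^ k :=
  MonoidHom.ext fun n => by simp [MonoidHom.pow_apply, mul_pow]

theorem hom_mul_one (f : N →* ℂˣ) : f * 1 = f := MonoidHom.ext fun n => by simp

theorem hom_one_mul (f : N →* ℂˣ) : 1 * f = f := MonoidHom.ext fun n => by simp

theorem hom_pow_one (f : N →* ℂˣ) : f ^ 1 = f :=
  MonoidHom.ext fun n => by simp [MonoidHom.pow_apply]

theorem hom_eq_one (f : N →* ℂˣ) {m k : ℕ} (h1 : f ^ m = 1) (h2 : f ^ k = 1)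
    (h : Nat.Coprime m k) : f = 1 := MonoidHom.ext fun n => by
  have e1 : f n ^ m = 1 := by rw [← MonoidHom.pow_apply, h1, MonoidHom.one_apply]
  have e2 : f n ^ k = 1 := by rw [← MonoidHom.pow_apply, h2, MonoidHom.one_apply]
  have e3 := pow_gcd_eq_one.2 ⟨e1, e2⟩
  rwa [h.gcd_eq_one, pow_one] at e3

/-- The action by conjugation on linear characters of a normal subgroup. -/
@[reducible] def homAction : MulAction G (N →* ℂˣ) where
  smul g f := f.comp (normalConjHom N g⁻¹)
  one_smul f := by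
    refine MonoidHom.ext fun n => congrArg f (Subtype.ext ?_)
    simp [normalConjHom]
  mul_smul a b f := by
    refine MonoidHom.ext fun n => congrArg f (Subtype.ext ?_)
    simp [normalConjHom, mul_assoc]

/-- The stabilizer of a linear character of `N`. -/
def stab (f : N →* ℂˣ) : Subgroup G := inertia N (fun n => (f n : ℂ))

theorem mem_stab (f : N →* ℂˣ) (g : G) :
    g ∈ stab N f ↔ ∀ n : N, f (normalConjHom N g n) = f n :=
  ⟨fun h n => Units.ext (congrFun h n), fun h => funext fun n => congrArg Units.val (h n)⟩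

theorem stabilizer_eq (f : N →* ℂˣ) :
    letI := homAction N
    MulAction.stabilizer G f = stab N f := by
  let := homAction N
  ext g
  rw [MulAction.mem_stabilizer_iff, ← inv_mem_iff (H := stab N f), mem_stab]
  exact ⟨fun h n => DFunLike.congr_fun h n, fun h => MonoidHom.ext h⟩

theorem stab_le_pow (f : N →* ℂˣ) (k : ℕ) : stab N f ≤ stab N (f ^ k) := fun g hg => by
  rw [mem_stab] at hg ⊢
  intro n
  rw [MonoidHom.pow_apply, MonoidHom.pow_apply, hg n]

theorem stab_pow_le (f : N →* ℂˣ) {m k : ℕ} (hk : f ^ k = 1) (h : Nat.Coprime m k) :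
    stab N (f ^ m) ≤ stab N f := fun g hg => by
  rw [mem_stab] at hg ⊢
  intro n
  have h1 : (f (normalConjHom N g n) / f n) ^ m = 1 := by
    have := hg n
    rw [MonoidHom.pow_apply, MonoidHom.pow_apply] at this
    rw [div_pow, this, div_self']
  have h2 : (f (normalConjHom N g n) / f n) ^ k = 1 := by
    rw [div_pow, ← MonoidHom.pow_apply, ← MonoidHom.pow_apply, hk, MonoidHom.one_apply,
      MonoidHom.one_apply, div_self']
  have h3 := pow_gcd_eq_one.2 ⟨h1, h2⟩
  rw [h.gcd_eq_one, pow_one, div_eq_one] at h3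
  exact h3

theorem invariant_of_index_eq_one (f : N →* ℂˣ) (h : (stab N f).index = 1) (g : G) (n : N) :
    f (normalConjHom N g n) = f n :=
  (mem_stab N f g).1 (Subgroup.index_eq_one.1 h ▸ Subgroup.mem_top g) n

theorem inertia_le_stab_det [Finite G] {a : ℕ} (ρ : Representation ℂ N (Fin a → ℂ)) :
    inertia N ρ.character ≤ stab N (detHom ρ) := fun g hg => by
  rw [mem_stab]
  intro n
  obtain ⟨φ⟩ := nonempty_equiv_of_character_eq ρ (ρ.comp (normalConjHom N g))
    (show ρ.character = conjFun N ρ.character g from ((mem_inertia N _ g).1 hg).symm)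
  refine Units.ext ?_
  rw [detHom_coe, detHom_coe]
  exact det_eq_of_equiv φ n

section Orbits

variable [Finite G]

/-- Two linear characters of coprime orbit lengths, one of `p`-power order: the orbit length of
the product is not coprime to the first. -/
theorem not_coprime_mul {p : ℕ} (hp : p.Prime) (f h : N →* ℂˣ) (hf : ∃ v : ℕ, f ^ p ^ v = 1)
    (hf1 : (stab N f).index ≠ 1) (hh : ¬ p ∣ (stab N h).index)
    (hfh : Nat.Coprime (stab N f).index (stab N h).index) :
    ¬ Nat.Coprime (stab N (f * h)).index (stab N f).index := by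
  intro hcop
  classical
  let := homAction N
  have hidx : ∀ x : N →* ℂˣ, (MulAction.orbit G x).ncard = (stab N x).index := fun x => by
    rw [← stabilizer_eq N x, MulAction.index_stabilizer]
  -- coprime orbit lengths: every pair of conjugates is a conjugate of the pair
  have pair : ∀ x y : N →* ℂˣ, Nat.Coprime (stab N x).index (stab N y).index →
      ∀ a b : G, ∃ g : G, g • x = a • x ∧ g • y = b • y := by
    intro x y hxy a b
    set K := stab N x ⊓ stab N y with hK
    have hdiv : (stab N x).index * (stab N y).index ∣ K.index :=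
      hxy.mul_dvd_of_dvd_of_dvd (Subgroup.index_dvd_of_le inf_le_left)
        (Subgroup.index_dvd_of_le inf_le_right)
    have hstab : MulAction.stabilizer G ((x, y) : (N →* ℂˣ) × (N →* ℂˣ)) = K := by
      ext g
      rw [MulAction.mem_stabilizer_iff, hK, Subgroup.mem_inf, ← stabilizer_eq N x,
        ← stabilizer_eq N y, MulAction.mem_stabilizer_iff, MulAction.mem_stabilizer_iff,
        Prod.smul_mk, Prod.mk.injEq]
    have hsub : MulAction.orbit G ((x, y) : (N →* ℂˣ) × (N →* ℂˣ)) ⊆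
        MulAction.orbit G x ×ˢ MulAction.orbit G y := by
      rintro _ ⟨g, rfl⟩
      exact ⟨⟨g, rfl⟩, ⟨g, rfl⟩⟩
    have hfx : ∀ z : N →* ℂˣ, (MulAction.orbit G z).Finite := fun z => Set.finite_range _
    have heq := Set.eq_of_subset_of_ncard_le hsub (by
      rw [Set.ncard_prod, hidx, hidx, ← MulAction.index_stabilizer, hstab]
      exact Nat.le_of_dvd (Nat.pos_of_ne_zero Subgroup.index_ne_zero_of_finite) hdiv)
      ((hfx x).prod (hfx y))
    have hm : (a • x, b • y) ∈ MulAction.orbit G ((x, y) : (N →* ℂˣ) × (N →* ℂˣ)) :=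
      heq ▸ ⟨⟨a, rfl⟩, ⟨b, rfl⟩⟩
    obtain ⟨g, hg⟩ := hm
    exact ⟨g, congrArg Prod.fst hg, congrArg Prod.snd hg⟩
  have hsmul : ∀ (g : G) (x y : N →* ℂˣ), g • (x * y) = g • x * g • y := fun g x y =>
    MonoidHom.ext fun n => rfl
  apply hf1
  rw [Subgroup.index_eq_one, eq_top_iff]
  intro c _
  rw [← stabilizer_eq N f, MulAction.mem_stabilizer_iff]
  set d := c • f * f⁻¹ with hd
  -- the orbit of `h` is invariant under multiplication by `d`
  have hinv : ∀ x ∈ MulAction.orbit G h, x * d ∈ MulAction.orbit G h := by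
    rintro _ ⟨b, rfl⟩
    obtain ⟨g1, hg1f, hg1h⟩ := pair f h hfh c b
    obtain ⟨g, hgν, hgf⟩ := pair (f * h) f hcop g1 1
    refine ⟨g, ?_⟩
    show g • h = b • h * d
    rw [hsmul, hsmul, hg1f, hg1h, hgf, one_smul] at hgν
    refine MonoidHom.ext fun n => ?_
    have e : f n * (g • h) n = (c • f) n * (b • h) n := DFunLike.congr_fun hgν n
    rw [hd, MonoidHom.mul_apply, MonoidHom.mul_apply, MonoidHom.inv_apply, ← mul_assoc,
      mul_comm ((b • h) n), ← e]
    exact (mul_inv_cancel_comm _ _).symm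
  let s := (Set.toFinite (MulAction.orbit G h) : (MulAction.orbit G h).Finite).toFinset
  have himg : s.image (fun x => x * d) = s :=
    Finset.eq_of_subset_of_card_le (fun x hx => by
      obtain ⟨y, hy, rfl⟩ := Finset.mem_image.1 hx
      exact (Set.Finite.mem_toFinset _).2 (hinv y ((Set.Finite.mem_toFinset _).1 hy)))
      (by rw [Finset.card_image_of_injective _ (mul_left_injective d)])
  have hpow : d ^ (stab N h).index = 1 := by
    have h1 : ∏ x ∈ s, x * d = ∏ x ∈ s, x := by
      conv_rhs => rw [← himg, Finset.prod_image (mul_left_injective d).injOn]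
    rw [Finset.prod_mul_distrib, Finset.prod_const, mul_eq_left] at h1
    rwa [← hidx, Set.ncard_eq_toFinset_card (MulAction.orbit G h)]
  obtain ⟨v, hv⟩ := hf
  have hpv : d ^ p ^ v = 1 := MonoidHom.ext fun n => by
    have e : ∀ m : N, f m ^ p ^ v = 1 := fun m => by
      rw [← MonoidHom.pow_apply, hv, MonoidHom.one_apply]
    rw [MonoidHom.pow_apply, hd, MonoidHom.mul_apply, mul_pow, MonoidHom.inv_apply, inv_pow, e,
      inv_one, mul_one]
    exact e _
  have hd1 : d = 1 := hom_eq_one N d hpow hpv ((hp.coprime_iff_not_dvd.2 hh).symm.pow_right v)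
  refine MonoidHom.ext fun n => ?_
  have e : (c • f) n * (f n)⁻¹ = 1 := DFunLike.congr_fun hd1 n
  exact mul_inv_eq_one.1 e

end Orbits

section Graph

/-- Being reachable in the common-divisor graph on relative degrees. -/
def Linked (a b : ℕ) : Prop :=
  ∃ (ha : a ∈ relCharDegrees N) (hb : b ∈ relCharDegrees N),
    (commonDivisorGraph.induce (relCharDegrees N)).Reachable ⟨a, ha⟩ ⟨b, hb⟩

variable {N}

theorem Linked.symm {a b : ℕ} : Linked N a b → Linked N b a := fun ⟨ha, hb, h⟩ => ⟨hb, ha, h.symm⟩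

theorem Linked.trans {a b c : ℕ} : Linked N a b → Linked N b c → Linked N a c :=
  fun ⟨ha, _, h⟩ ⟨_, hc, h'⟩ => ⟨ha, hc, h.trans h'⟩

theorem Linked.rfl' {a : ℕ} (ha : a ∈ relCharDegrees N) : Linked N a a :=
  ⟨ha, ha, SimpleGraph.Reachable.refl _⟩

theorem pos_of_mem [Finite G] {a : ℕ} (ha : a ∈ relCharDegrees N) : 0 < a := by
  obtain ⟨χ, -, rfl⟩ := ha
  exact Nat.pos_of_ne_zero (Block.charDegree_eq χ).2

theorem linked_of_dvd [Finite G] {a b m : ℕ} (ha : a ∈ relCharDegrees N)
    (hb : b ∈ relCharDegrees N) (hm : m ≠ 1) (hma : m ∣ a) (hmb : m ∣ b) : Linked N a b := by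
  refine ⟨ha, hb, ?_⟩
  by_cases h : a = b
  · subst h; exact SimpleGraph.Reachable.refl _
  · refine SimpleGraph.Adj.reachable ⟨h, ?_⟩
    have h0 : 0 < Nat.gcd a b := Nat.gcd_pos_of_pos_left _ (pos_of_mem ha)
    have h1 : Nat.gcd a b ≠ 1 := fun h => hm (Nat.dvd_one.1 (h ▸ Nat.dvd_gcd hma hmb))
    show 1 < Nat.gcd a b
    omega

end Graph

section Chars

variable [Fintype G] [Fintype N]

/-- A nonprincipal irreducible character of `N` lies under a relative degree. -/
theorem exists_over (hNG : N ≤ commutator G) {a : ℕ} (ρ : Representation ℂ N (Fin a → ℂ))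
    [ρ.IsIrreducible] (hne : ρ.character ≠ fun _ => 1) :
    ∃ d ∈ relCharDegrees N, ∃ e : ℕ, d = a * e ∧ (inertia N ρ.character).index ∣ e ∧
      ∀ k : ℕ, (∀ (g : G) (n : N), (detHom ρ ^ k) (normalConjHom N g n) = (detHom ρ ^ k) n) →
        (detHom ρ ^ k) ^ e = 1 := by
  classical
  have hθ : IsIrrCharacter N ρ.character := ⟨a, ρ, inferInstance, rfl⟩
  have hind : IsCharacter G (indFun N ρ.character) :=
    isCharacter_indFun N (isCharacter_of_isIrr hθ)
  have h0 : indFun N ρ.character ≠ 0 := fun h => by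
    have h1 := congrFun h 1
    rw [indFun_one, Pi.zero_apply, mul_eq_zero] at h1
    rcases h1 with h1 | h1
    · exact Subgroup.index_ne_zero_of_finite (by exact_mod_cast h1)
    · exact irr_one_ne_zero ⟨_, hθ⟩ h1
  obtain ⟨χ, hχ⟩ := exists_irr_inner_ne_zero hind h0
  have hcon : classInner (fun n : N => (χ : G → ℂ) n) ρ.character ≠ 0 := by
    intro h
    apply hχ
    rw [classInner_indFun N _ _ (isClassFunction_of_isCharacter (isCharacter_irr χ)),
      ← classInner_conj, h, map_zero]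
  have hrel : ∃ x ∈ N, (χ : G → ℂ) x ≠ (χ : G → ℂ) 1 := by
    by_contra hc
    push Not at hc
    apply hcon
    rw [show (fun n : N => (χ : G → ℂ) n) = (χ : G → ℂ) 1 • fun _ : N => (1 : ℂ) from
      funext fun n => by simp [hc n n.2], classInner_smul_left,
      classInner_irr_ne (χ := ⟨_, isIrrCharacter_one⟩) (ψ := ⟨_, hθ⟩)
        fun h => hne (congrArg Subtype.val h).symm, mul_zero]
  refine ⟨charDegree (χ : G → ℂ), ⟨χ, hrel, rfl⟩, ?_⟩
  exact det_pow_ratio N hNG χ.2 (Block.charDegree_eq χ).1 ρ hcon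

/-- A relative irreducible character lies over a nonprincipal irreducible character of `N`. -/
theorem exists_under_char (hNG : N ≤ commutator G) (χ : IrrCharacter G)
    (hrel : ∃ x ∈ N, (χ : G → ℂ) x ≠ (χ : G → ℂ) 1) :
    ∃ (a : ℕ) (ρ : Representation ℂ N (Fin a → ℂ)), ρ.IsIrreducible ∧
      (ρ.character ≠ fun _ => 1) ∧ classInner (fun n : N => (χ : G → ℂ) n) ρ.character ≠ 0 ∧
      ∃ e : ℕ, charDegree (χ : G → ℂ) = a * e ∧ (inertia N ρ.character).index ∣ e ∧
      ∀ k : ℕ, (∀ (g : G) (n : N), (detHom ρ ^ k) (normalConjHom N g n) = (detHom ρ ^ k) n) →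
        (detHom ρ ^ k) ^ e = 1 := by
  classical
  obtain ⟨x, hx, hne⟩ := hrel
  have hf : IsCharacter N fun n : N => (χ : G → ℂ) n :=
    isCharacter_comp (isCharacter_irr χ) N.subtype
  have := Fintype.ofFinite (IrrCharacter N)
  let one' : IrrCharacter N := ⟨fun _ => 1, isIrrCharacter_one⟩
  obtain ⟨θ, hθ1, hθ⟩ : ∃ θ : IrrCharacter N, θ ≠ one' ∧
      classInner (fun n : N => (χ : G → ℂ) n) (θ : N → ℂ) ≠ 0 := by
    by_contra hc
    push Not at hc
    apply hne
    have hexp := classFun_expand (isClassFunction_of_isCharacter hf)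
    have hval : ∀ n : N, (χ : G → ℂ) n =
        classInner (fun n : N => (χ : G → ℂ) n) (one' : N → ℂ) := by
      intro n
      refine (congrFun hexp n).trans ?_
      rw [Finset.sum_apply, Finset.sum_eq_single one']
      · simp [one']
      · intro φ _ hφ
        simp [hc φ hφ]
      · exact fun h => absurd (Finset.mem_univ one') h
    exact (hval ⟨x, hx⟩).trans (by simpa using (hval 1).symm)
  obtain ⟨θ, a, ρ, hρ, rfl⟩ := θ
  refine ⟨a, ρ, hρ, fun h => hθ1 (Subtype.ext h), hθ, ?_⟩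
  exact det_pow_ratio N hNG χ.2 (Block.charDegree_eq χ).1 ρ hθ

/-- A relative degree lies over a nonprincipal irreducible character of `N`. -/
theorem exists_under (hNG : N ≤ commutator G) {d : ℕ} (hd : d ∈ relCharDegrees N) :
    ∃ (a : ℕ) (ρ : Representation ℂ N (Fin a → ℂ)), ρ.IsIrreducible ∧
      (ρ.character ≠ fun _ => 1) ∧ ∃ e : ℕ, d = a * e ∧ (inertia N ρ.character).index ∣ e ∧
      ∀ k : ℕ, (∀ (g : G) (n : N), (detHom ρ ^ k) (normalConjHom N g n) = (detHom ρ ^ k) n) →
        (detHom ρ ^ k) ^ e = 1 := by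
  obtain ⟨χ, hrel, rfl⟩ := hd
  obtain ⟨a, ρ, h1, h2, -, h3⟩ := exists_under_char N hNG χ hrel
  exact ⟨a, ρ, h1, h2, h3⟩

/-- A representation with linear character `f` has determinant `f`. -/
theorem detHom_of_linear {a : ℕ} (ρ : Representation ℂ N (Fin a → ℂ)) (f : N →* ℂˣ)
    (h : ρ.character = fun n => (f n : ℂ)) : a = 1 ∧ detHom ρ = f := by
  have ha : a = 1 := by
    have h1 := congrFun h 1
    rw [Representation.char_one, Module.finrank_fin_fun, map_one, Units.val_one] at h1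
    exact_mod_cast h1
  subst ha
  refine ⟨rfl, MonoidHom.ext fun n => Units.ext ?_⟩
  rw [det_eq_trace_of_one, h]

/-- Degrees over a linear character. -/
theorem exists_over_linear (hNG : N ≤ commutator G) (f : N →* ℂˣ) (hf : f ≠ 1) :
    ∃ d ∈ relCharDegrees N, (stab N f).index ∣ d ∧
      ∀ k : ℕ, (∀ (g : G) (n : N), (f ^ k) (normalConjHom N g n) = (f ^ k) n) →
        (f ^ k) ^ d = 1 := by
  obtain ⟨a, ρ, hρ, hc⟩ := isIrrCharacter_lin f
  obtain ⟨rfl, hdet⟩ := detHom_of_linear N ρ f hc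
  have hne : ρ.character ≠ fun _ => 1 := fun h => hf (MonoidHom.ext fun n => Units.ext
    ((congrFun hc n).symm.trans (congrFun h n)))
  obtain ⟨d, hd, e, rfl, hi, hdet'⟩ := exists_over N hNG ρ hne
  rw [one_mul] at hd
  rw [hdet] at hdet'
  rw [hc] at hi
  exact ⟨e, hd, hi, hdet'⟩

/-- `f` is a nontrivial linear character of `p`-power order. -/
def PLinear (p : ℕ) (f : N →* ℂˣ) : Prop := f ≠ 1 ∧ ∃ v : ℕ, f ^ p ^ v = 1

/-- `f` has an orbit of nontrivial length prime to `p`. -/
def Good (p : ℕ) (f : N →* ℂˣ) : Prop :=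
  PLinear N p f ∧ (stab N f).index ≠ 1 ∧ ¬ p ∣ (stab N f).index

/-- The degree is linked to a degree over a good character. -/
def Moved (p d : ℕ) : Prop :=
  ∃ f : N →* ℂˣ, Good N p f ∧ ∃ d', (stab N f).index ∣ d' ∧ Linked N d d'

/-- The main step: the degree lies over a good character or shares a divisor with a degree over
`f0`. -/
theorem good_or_shared (hNG : N ≤ commutator G) {p : ℕ} (hp : p.Prime) {d : ℕ}
    (hd : d ∈ relCharDegrees N) (hpd : ¬ p ∣ d) (f0 : N →* ℂˣ) (hf0 : PLinear N p f0) :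
    (∃ μ : N →* ℂˣ, Good N p μ ∧ (stab N μ).index ∣ d) ∨
      ∃ d' ∈ relCharDegrees N, (∃ m, m ≠ 1 ∧ m ∣ d ∧ m ∣ d') ∧ (stab N f0).index ∣ d' ∧
        ((stab N f0).index = 1 → p ∣ d') := by
  classical
  obtain ⟨a, ρ, hρ, hne, e, rfl, hi, hdet⟩ := exists_under N hNG hd
  set M := Nat.card N
  set k := ordCompl[p] M with hk
  set v := M.factorization p with hv
  have hM : p ^ v * k = M := Nat.ordProj_mul_ordCompl_eq_self M p
  have hpk : ¬ p ∣ k := Nat.not_dvd_ordCompl hp Nat.card_pos.ne'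
  have hdetM : detHom ρ ^ M = 1 := MonoidHom.ext fun n => by
    rw [MonoidHom.pow_apply, ← map_pow, pow_card_eq_one', map_one, MonoidHom.one_apply]
  have hpa : ¬ p ∣ a := fun h => hpd (h.trans (dvd_mul_right _ _))
  have hpe : ¬ p ∣ e := fun h => hpd (h.trans (dvd_mul_left _ _))
  have hle := inertia_le_stab_det N ρ
  set μ := detHom ρ ^ k with hμ
  have hμp : μ ^ p ^ v = 1 := by
    rw [hμ, hom_pow_mul, mul_comm, hM, hdetM]
  by_cases hμ1 : μ = 1
  swap
  · refine Or.inl ⟨μ, ⟨⟨hμ1, v, hμp⟩, ?_, ?_⟩, ?_⟩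
    · intro h
      have h1 := hdet k (invariant_of_index_eq_one N μ h)
      exact hμ1 (hom_eq_one N μ h1 hμp ((hp.coprime_iff_not_dvd.2 hpe).symm.pow_right v))
    · exact fun h => hpe (h.trans ((Subgroup.index_dvd_of_le
        (hle.trans (stab_le_pow N _ k))).trans hi))
    · exact ((Subgroup.index_dvd_of_le (hle.trans (stab_le_pow N _ k))).trans hi).trans
        (dvd_mul_left _ _)
  right
  -- twist by `f0`
  obtain ⟨w, hw⟩ := hf0.2
  obtain ⟨a', σ, hσ, hσc⟩ := isIrrCharacter_mul_linear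
    (⟨ρ.character, a, ρ, hρ, rfl⟩ : IrrCharacter N) f0
  obtain rfl : a = a' := by
    have h1 := congrFun hσc 1
    rw [Representation.char_one, Module.finrank_fin_fun] at h1
    simpa [Representation.char_one, eq_comm] using h1
  have hdσ : detHom σ = detHom ρ * f0 ^ a := by
    obtain ⟨φ⟩ := nonempty_equiv_of_character_eq (twistRep ρ f0) σ (by
      rw [hσc]
      funext n
      show LinearMap.trace ℂ _ ((f0 n : ℂ) • ρ n) = _
      rw [map_smul, smul_eq_mul]
      rfl)
    refine MonoidHom.ext fun n => Units.ext ?_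
    rw [detHom_coe, det_eq_of_equiv φ, ← detHom_coe, detHom_twistRep, Module.finrank_fin_fun]
  have hσk : detHom σ ^ k = f0 ^ (a * k) := by
    rw [hdσ, hom_mul_pow, hom_pow_mul, ← hμ, hμ1, hom_one_mul]
  have hcop : Nat.Coprime (a * k) (p ^ w) :=
    ((hp.coprime_iff_not_dvd.2 fun h => (hp.dvd_mul.1 h).elim hpa hpk).symm).pow_right w
  have hσne : σ.character ≠ fun _ => 1 := by
    intro h
    refine hf0.1 ?_
    obtain ⟨ha1, h1⟩ := detHom_of_linear N σ 1 (by rw [h]; simp)
    have h2 : f0 ^ (a * k) = 1 := by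
      rw [← hσk, h1]
      exact MonoidHom.ext fun n => by simp [MonoidHom.pow_apply]
    exact hom_eq_one N f0 h2 hw hcop
  obtain ⟨d', hd', e', rfl, hi', hdet'⟩ := exists_over N hNG σ hσne
  have hstab : inertia N σ.character ≤ stab N f0 := by
    have h := (inertia_le_stab_det N σ).trans (stab_le_pow N _ k)
    rw [hσk] at h
    exact h.trans (stab_pow_le N f0 hw hcop)
  have hidx : (stab N f0).index ∣ a * e' :=
    ((Subgroup.index_dvd_of_le hstab).trans hi').trans (dvd_mul_left _ _)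
  refine ⟨a * e', hd', ?_, hidx, fun h1 => ?_⟩
  swap
  · by_contra hpd'
    have hinv : ∀ (g : G) (n : N),
        (detHom σ ^ k) (normalConjHom N g n) = (detHom σ ^ k) n := fun g n => by
      rw [hσk, MonoidHom.pow_apply, MonoidHom.pow_apply, invariant_of_index_eq_one N f0 h1 g n]
    have h2 := hdet' k hinv
    rw [hσk, hom_pow_mul] at h2
    have hcop' : Nat.Coprime (a * k * e') (p ^ w) :=
      Nat.Coprime.mul_left hcop
        (((hp.coprime_iff_not_dvd.2 fun h => hpd' (h.trans (dvd_mul_left _ _))).symm).pow_right w)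
    exact hf0.1 (hom_eq_one N f0 h2 hw hcop')
  -- the link
  by_cases ha : a = 1
  swap
  · exact ⟨a, ha, dvd_mul_right _ _, dvd_mul_right _ _⟩
  subst ha
  have hfρ : ρ.character = fun n => (detHom ρ n : ℂ) :=
    funext fun n => (det_eq_trace_of_one N ρ n).symm
  have hfσ : σ.character = fun n => (detHom σ n : ℂ) :=
    funext fun n => (det_eq_trace_of_one N σ n).symm
  set f := detHom ρ with hf
  have hfk : f ^ k = 1 := hμ1
  have hpw : (detHom σ) ^ p ^ w = f ^ p ^ w := by
    rw [hdσ, hom_pow_one, hom_mul_pow, hw, hom_mul_one]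
  have hkw : Nat.Coprime (p ^ w) k := (hp.coprime_iff_not_dvd.2 hpk).pow_left w
  by_cases hti : (inertia N ρ.character).index = 1
  swap
  · refine ⟨_, hti, (by rwa [one_mul]), ?_⟩
    rw [one_mul]
    refine (Subgroup.index_dvd_of_le ?_).trans hi'
    have h := stab_le_pow N (detHom σ) (p ^ w)
    rw [hpw] at h
    have h' := h.trans (stab_pow_le N f hfk hkw)
    rwa [stab, stab, ← hfσ, ← hfρ] at h'
  have hinvf : ∀ (j : ℕ) (g : G) (n : N), (f ^ j) (normalConjHom N g n) = (f ^ j) n := by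
    intro j g n
    rw [hfρ] at hti
    rw [MonoidHom.pow_apply, MonoidHom.pow_apply, invariant_of_index_eq_one N f hti g n]
  have hfne : f ≠ 1 := fun h => hne (by rw [hfρ, h]; simp)
  obtain ⟨r, hr, hrf⟩ := Nat.exists_prime_and_dvd
    (show orderOf f ≠ 1 from fun h => hfne (orderOf_eq_one_iff.1 h))
  have h1 := hdet 1 (hinvf 1)
  rw [hom_pow_one] at h1
  have hr1 : r ∣ e := hrf.trans (orderOf_dvd_of_pow_eq_one h1)
  have h2 := hdet' (p ^ w) (fun g n => by rw [hpw]; exact hinvf _ g n)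
  rw [hpw, hom_pow_mul] at h2
  have hrk : r ∣ k := hrf.trans (orderOf_dvd_of_pow_eq_one hfk)
  have hr2 : r ∣ e' := by
    rcases hr.dvd_mul.1 (hrf.trans (orderOf_dvd_of_pow_eq_one h2)) with h | h
    · exact absurd ((Nat.prime_dvd_prime_iff_eq hr hp).1 (hr.dvd_of_dvd_pow h) ▸ hrk) hpk
    · exact h
  exact ⟨r, hr.ne_one, by rwa [one_mul], by rwa [one_mul]⟩

/-- The main step, up to linking. -/
theorem moved_or_linked (hNG : N ≤ commutator G) {p : ℕ} (hp : p.Prime) {d : ℕ}
    (hd : d ∈ relCharDegrees N) (hpd : ¬ p ∣ d) (f0 : N →* ℂˣ) (hf0 : PLinear N p f0) :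
    Moved N p d ∨ ∃ d', Linked N d d' ∧ (stab N f0).index ∣ d' ∧
      ((stab N f0).index = 1 → p ∣ d') := by
  rcases good_or_shared N hNG hp hd hpd f0 hf0 with ⟨μ, hμ, hi⟩ | ⟨d', hd', ⟨m, hm, h1, h2⟩, h⟩
  · exact Or.inl ⟨μ, hμ, d, hi, Linked.rfl' hd⟩
  · exact Or.inr ⟨d', linked_of_dvd hd hd' hm h1 h2, h⟩

/-- Degrees linked to good characters are linked together, unless one reaches a multiple of `p`. -/
theorem moved_linked (hNG : N ≤ commutator G) {p : ℕ} (hp : p.Prime) {a b : ℕ}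
    (ha : Moved N p a) (hb : Moved N p b) : Linked N a b := by
  obtain ⟨f, ⟨⟨hf1, hfp⟩, hft, hfn⟩, a', hfa, hla⟩ := ha
  obtain ⟨h, ⟨⟨hh1, hhp⟩, hht, hhn⟩, b', hhb, hlb⟩ := hb
  refine hla.trans (Linked.trans ?_ hlb.symm)
  obtain ⟨-, ha', -⟩ := id hla
  obtain ⟨-, hb', -⟩ := id hlb
  by_cases hfh : Nat.Coprime (stab N f).index (stab N h).index
  swap
  · obtain ⟨r, hr, hr1, hr2⟩ := Nat.Prime.not_coprime_iff_dvd.1 hfh
    exact linked_of_dvd ha' hb' hr.ne_one (hr1.trans hfa) (hr2.trans hhb)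
  have hne : f * h ≠ 1 := fun e => hft (Nat.eq_one_of_dvd_coprimes hfh dvd_rfl (by
    have he : h = f⁻¹ := MonoidHom.ext fun n => by
      rw [MonoidHom.inv_apply]
      exact eq_inv_of_mul_eq_one_right (DFunLike.congr_fun e n)
    have : stab N h = stab N f := by
      ext g
      simp only [he, mem_stab, MonoidHom.inv_apply, inv_inj]
    rw [this]))
  obtain ⟨c, hc, hcd, -⟩ := exists_over_linear N hNG (f * h) hne
  have n1 := not_coprime_mul N hp f h hfp hft hhn hfh
  have n2 := not_coprime_mul N hp h f hhp hht hfn hfh.symm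
  rw [mul_comm h f] at n2
  obtain ⟨r, hr, hr1, hr2⟩ := Nat.Prime.not_coprime_iff_dvd.1 n1
  obtain ⟨q, hq, hq1, hq2⟩ := Nat.Prime.not_coprime_iff_dvd.1 n2
  exact (linked_of_dvd ha' hc hr.ne_one (hr2.trans hfa) (hr1.trans hcd)).trans
    (linked_of_dvd hc hb' hq.ne_one (hq1.trans hcd) (hq2.trans hhb))

/-- A prime of `|N : N'|` gives a linear character of its order. -/
theorem exists_pLinear {p : ℕ} (hp : p.Prime) (hpd : p ∣ ⁅N, N⁆.relIndex N) :
    ∃ f : N →* ℂˣ, PLinear N p f := by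
  have := Fact.mk hp
  have heq : ⁅N, N⁆.subgroupOf N = commutator ↥N := by
    rw [Subgroup.subgroupOf, ← Subgroup.map_subtype_commutator,
      Subgroup.comap_map_eq_self_of_injective N.subtype_injective]
  rw [Subgroup.relIndex, heq] at hpd
  have hcard : p ∣ Nat.card (Abelianization N) := hpd
  obtain ⟨x, hx⟩ := exists_prime_orderOf_dvd_card' p hcard
  have hx1 : x ≠ 1 := fun h => by
    rw [h, orderOf_one] at hx
    exact hp.one_lt.ne hx
  obtain ⟨φ, hφ⟩ :=
    CommGroup.exists_apply_ne_one_of_hasEnoughRootsOfUnity (Abelianization N) ℂ hx1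
  set M := Nat.card N
  refine ⟨(φ.comp Abelianization.of) ^ ordCompl[p] M, fun h => hφ ?_, M.factorization p, ?_⟩
  · obtain ⟨y, rfl⟩ := QuotientGroup.mk'_surjective (commutator N) x
    have h1 : φ (Abelianization.of y) ^ ordCompl[p] M = 1 := by
      have := DFunLike.congr_fun h y
      rwa [MonoidHom.pow_apply, MonoidHom.comp_apply, MonoidHom.one_apply] at this
    have h2 : φ (Abelianization.of y) ^ p = 1 := by
      rw [← map_pow, show (Abelianization.of y) ^ p = 1 from hx ▸ pow_orderOf_eq_one _, map_one]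
    have h3 := pow_gcd_eq_one.2 ⟨h1, h2⟩
    rwa [((hp.coprime_iff_not_dvd.2 (Nat.not_dvd_ordCompl hp Nat.card_pos.ne')).symm).gcd_eq_one,
      pow_one] at h3
  · rw [hom_pow_mul, mul_comm, Nat.ordProj_mul_ordCompl_eq_self]
    exact MonoidHom.ext fun n => by
      rw [MonoidHom.pow_apply, ← map_pow, pow_card_eq_one', map_one, MonoidHom.one_apply]

/-- Every degree reaches a multiple of `p` or a good character. -/
theorem multiple_or_moved (hNG : N ≤ commutator G) {p : ℕ} (hp : p.Prime)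
    (hpd : p ∣ ⁅N, N⁆.relIndex N) {d : ℕ} (hd : d ∈ relCharDegrees N) :
    (∃ d', Linked N d d' ∧ p ∣ d') ∨ Moved N p d := by
  obtain ⟨f0, hf0⟩ := exists_pLinear N hp hpd
  by_cases h : p ∣ d
  · exact Or.inl ⟨d, Linked.rfl' hd, h⟩
  rcases moved_or_linked N hNG hp hd h f0 hf0 with hm | ⟨d', hl, hi, h1⟩
  · exact Or.inr hm
  by_cases hp1 : p ∣ (stab N f0).index
  · exact Or.inl ⟨d', hl, hp1.trans hi⟩
  by_cases h11 : (stab N f0).index = 1
  · exact Or.inl ⟨d', hl, h1 h11⟩
  · exact Or.inr ⟨f0, ⟨hf0, h11, hp1⟩, d', hi, hl⟩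

theorem linked_of_multiples {p : ℕ} (hp : p.Prime) {a b : ℕ}
    (ha : ∃ d', Linked N a d' ∧ p ∣ d') (hb : ∃ d', Linked N b d' ∧ p ∣ d') : Linked N a b := by
  obtain ⟨a', hla, hpa⟩ := ha
  obtain ⟨b', hlb, hpb⟩ := hb
  obtain ⟨-, ha', -⟩ := id hla
  obtain ⟨-, hb', -⟩ := id hlb
  exact hla.trans ((linked_of_dvd ha' hb' hp.ne_one hpa hpb).trans hlb.symm)

/-- If two degrees are not linked, a prime of `|N : N'|` divides exactly one of them. -/
theorem exactly_one (hNG : N ≤ commutator G) {p : ℕ} (hp : p.Prime)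
    (hpd : p ∣ ⁅N, N⁆.relIndex N) {a b : ℕ} (ha : a ∈ relCharDegrees N)
    (hb : b ∈ relCharDegrees N) (hab : ¬ Linked N a b) :
    (p ∣ a ∧ ¬ p ∣ b ∧ Moved N p b) ∨ (p ∣ b ∧ ¬ p ∣ a ∧ Moved N p a) := by
  obtain ⟨f, hf⟩ : ∃ f, Good N p f := by
    by_contra hc
    push Not at hc
    refine hab (linked_of_multiples N hp ?_ ?_)
    · exact (multiple_or_moved N hNG hp hpd ha).resolve_right fun ⟨f, hf, _⟩ => hc f hf
    · exact (multiple_or_moved N hNG hp hpd hb).resolve_right fun ⟨f, hf, _⟩ => hc f hf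
  have key : ∀ d ∈ relCharDegrees N, ¬ p ∣ d → Moved N p d := fun d hd h => by
    rcases moved_or_linked N hNG hp hd h f hf.1 with hm | ⟨d', hl, hi, -⟩
    · exact hm
    · exact ⟨f, hf, d', hi, hl⟩
  by_cases h1 : p ∣ a
  · by_cases h2 : p ∣ b
    · exact absurd (linked_of_dvd ha hb hp.ne_one h1 h2) hab
    · exact Or.inl ⟨h1, h2, key b hb h2⟩
  · by_cases h2 : p ∣ b
    · exact Or.inr ⟨h2, h1, key a ha h1⟩
    · exact absurd (moved_linked N hNG hp (key a ha h1) (key b hb h2)) hab

/-- Good characters for different primes are linked. -/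
theorem moved_linked_ne (hNG : N ≤ commutator G) {p q : ℕ} (hp : p.Prime) (hq : q.Prime)
    (hpq : p ≠ q) {a b : ℕ} (ha : Moved N p a) (hb : Moved N q b) : Linked N a b := by
  obtain ⟨f, ⟨⟨hf1, v, hv⟩, hft, -⟩, a', hfa, hla⟩ := ha
  obtain ⟨h, ⟨⟨hh1, w, hw⟩, hht, -⟩, b', hhb, hlb⟩ := hb
  obtain ⟨-, ha', -⟩ := id hla
  obtain ⟨-, hb', -⟩ := id hlb
  have hcop : Nat.Coprime (p ^ v) (q ^ w) := Nat.Coprime.pow v w ((Nat.coprime_primes hp hq).2 hpq)
  have hl1 : stab N (f * h) ≤ stab N f := by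
    have e := stab_le_pow N (f * h) (q ^ w)
    rw [hom_mul_pow, hw, hom_mul_one] at e
    exact e.trans (stab_pow_le N f hv hcop.symm)
  have hl2 : stab N (f * h) ≤ stab N h := by
    have e := stab_le_pow N (f * h) (p ^ v)
    rw [hom_mul_pow, hv, hom_one_mul] at e
    exact e.trans (stab_pow_le N h hw hcop)
  have hne : f * h ≠ 1 := fun e => hft (Subgroup.index_eq_one.2 (top_le_iff.1 (le_trans
    (fun g _ => (mem_stab N _ g).2 (fun n => by rw [e]; rfl)) hl1)))
  obtain ⟨c, hc, hcd, -⟩ := exists_over_linear N hNG (f * h) hne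
  exact hla.trans ((linked_of_dvd ha' hc hft hfa ((Subgroup.index_dvd_of_le hl1).trans hcd)).trans
    ((linked_of_dvd hc hb' hht ((Subgroup.index_dvd_of_le hl2).trans hcd) hhb).trans hlb.symm))

/-- At most two components, and how the primes of `|N : N'|` are distributed over them. -/
theorem relative_two_components (hN : ⁅N, N⁆ < N) (hNG : N ≤ commutator G) :
    Nat.card (commonDivisorGraph.induce (relCharDegrees N)).ConnectedComponent ≤ 2 ∧
    ∀ (a b : ℕ) (ha : a ∈ relCharDegrees N) (hb : b ∈ relCharDegrees N),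
      ¬ (commonDivisorGraph.induce (relCharDegrees N)).Reachable ⟨a, ha⟩ ⟨b, hb⟩ →
      (Nat.Coprime a (⁅N, N⁆.relIndex N) ∧
        ∀ r : ℕ, r.Prime → r ∣ ⁅N, N⁆.relIndex N → r ∣ b) ∨
      (Nat.Coprime b (⁅N, N⁆.relIndex N) ∧
        ∀ r : ℕ, r.Prime → r ∣ ⁅N, N⁆.relIndex N → r ∣ a) := by
  classical
  have hidx : ⁅N, N⁆.relIndex N ≠ 1 := fun h =>
    hN.not_ge (Subgroup.relIndex_eq_one.1 h)
  obtain ⟨p, hp, hpd⟩ := Nat.exists_prime_and_dvd hidx
  refine ⟨?_, fun a b ha hb hab => ?_⟩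
  · let H := commonDivisorGraph.induce (relCharDegrees N)
    let f : H.ConnectedComponent → Bool := fun C =>
      decide (∃ v : relCharDegrees N, C = H.connectedComponentMk v ∧ p ∣ v.1)
    have hf : Function.Injective f := by
      intro C D hCD
      have hiff := decide_eq_decide.1 hCD
      induction C using SimpleGraph.ConnectedComponent.ind with
      | h x =>
        induction D using SimpleGraph.ConnectedComponent.ind with
        | h y =>
          rcases multiple_or_moved N hNG hp hpd x.2 with hx | hx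
          · obtain ⟨x', ⟨h1, h2, h3⟩, hpx⟩ := hx
            obtain ⟨z, hz, hpz⟩ := hiff.1 ⟨⟨x', h2⟩, SimpleGraph.ConnectedComponent.sound h3, hpx⟩
            obtain ⟨_, _, h⟩ := linked_of_multiples N hp ⟨x', ⟨h1, h2, h3⟩, hpx⟩
              (b := y.1) ⟨z.1, ⟨y.2, z.2, SimpleGraph.ConnectedComponent.exact hz⟩, hpz⟩
            exact SimpleGraph.ConnectedComponent.sound h
          · rcases multiple_or_moved N hNG hp hpd y.2 with hy | hy
            · obtain ⟨y', ⟨h1, h2, h3⟩, hpy⟩ := hy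
              obtain ⟨z, hz, hpz⟩ :=
                hiff.2 ⟨⟨y', h2⟩, SimpleGraph.ConnectedComponent.sound h3, hpy⟩
              obtain ⟨_, _, h⟩ := linked_of_multiples N hp (a := x.1)
                ⟨z.1, ⟨x.2, z.2, SimpleGraph.ConnectedComponent.exact hz⟩, hpz⟩
                ⟨y', ⟨h1, h2, h3⟩, hpy⟩
              exact SimpleGraph.ConnectedComponent.sound h
            · obtain ⟨_, _, h⟩ := moved_linked N hNG hp hx hy
              exact SimpleGraph.ConnectedComponent.sound h
    calc Nat.card H.ConnectedComponent ≤ Nat.card Bool := Nat.card_le_card_of_injective f hf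
      _ = 2 := by simp
  · have hab' : ¬ Linked N a b := fun ⟨_, _, h⟩ => hab h
    have hba' : ¬ Linked N b a := fun h => hab' h.symm
    rcases exactly_one N hNG hp hpd ha hb hab' with ⟨hpa, hpb, hmb⟩ | ⟨hpb, hpa, hma⟩
    · right
      have hall : ∀ r : ℕ, r.Prime → r ∣ ⁅N, N⁆.relIndex N → r ∣ a ∧ ¬ r ∣ b := by
        intro r hr hrd
        rcases exactly_one N hNG hr hrd ha hb hab' with ⟨h1, h2, -⟩ | ⟨h1, h2, hma⟩
        · exact ⟨h1, h2⟩
        · exact absurd (moved_linked_ne N hNG hr hp (fun e => h2 (e ▸ hpa)) hma hmb) hab'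
      exact ⟨Nat.coprime_of_dvd fun r hr h1 h2 => (hall r hr h2).2 h1,
        fun r hr hrd => (hall r hr hrd).1⟩
    · left
      have hall : ∀ r : ℕ, r.Prime → r ∣ ⁅N, N⁆.relIndex N → r ∣ b ∧ ¬ r ∣ a := by
        intro r hr hrd
        rcases exactly_one N hNG hr hrd ha hb hab' with ⟨h1, h2, hmb⟩ | ⟨h1, h2, -⟩
        · exact absurd (moved_linked_ne N hNG hp hr (fun e => hpa (e ▸ h1)) hma hmb) hab'
        · exact ⟨h1, h2⟩
      exact ⟨Nat.coprime_of_dvd fun r hr h1 h2 => (hall r hr h2).2 h1,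
        fun r hr hrd => (hall r hr hrd).1⟩

end Chars

end CfsgLib.DegComp
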