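import Cfsg.Prelude.Def_DegreeGraph
import Cfsg.Agent.Lib.Char.DegreeRatio
import Cfsg.Agent.Lib.Char.InvariantAbove
import Cfsg.Agent.Lib.Char.Linear
import Cfsg.Agent.Lib.Char.Degree
import Cfsg.Agent.Lib.Block.Defect
import Mathlib.Analysis.Complex.Polynomial.Basic
import Mathlib.GroupTheory.FiniteAbelian.Duality
import Mathlib.RingTheory.RootsOfUnity.AlgebraicallyClosed
import Mathlib.Combinatorics.SimpleGraph.Connectivity.Connected

/-!
# The degree graph of a solvable group has at most two components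

Take `N` maximal among normal subgroups with nonabelian quotient `Q`; then `V = Q'` is the
unique minimal normal subgroup of `Q`, of exponent a prime `s`.  Either `V` is central, `Q` is
an `s`-group and every vertex is joined to `s`; or every element outside `V` acts without
nontrivial fixed points on `V`, and then every vertex is joined to `s` or to a prime divisor
of `|Q : V|`.
-/

set_option autoImplicit false
set_option linter.unusedSectionVars false

namespace CfsgLib.DegComp

open Cfsg CfsgLib CfsgLib.Char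
open scoped ComplexConjugate

universe u

section Graph

variable {G : Type u} [Group G]

theorem reach_of_dvd {p q d : ℕ} (hd : d ∈ charDegrees G) (hp : p.Prime) (hq : q.Prime)
    (hpd : p ∣ d) (hqd : q ∣ d) :
    ((degreeGraph G).induce (degreePrimes G)).Reachable
      ⟨p, hp, d, hd, hpd⟩ ⟨q, hq, d, hd, hqd⟩ := by
  by_cases h : p = q
  · subst h; exact SimpleGraph.Reachable.refl _
  · exact SimpleGraph.Adj.reachable
      ⟨h, hp, hq, d, hd, ((Nat.coprime_primes hp hq).2 h).mul_dvd_of_dvd_of_dvd hpd hqd⟩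

/-- If every vertex shares a degree with `a` or with `b`, there are at most two components. -/
theorem card_comp_le_two (a b : ℕ) (ha : a.Prime) (hb : b.Prime)
    (h : ∀ v ∈ degreePrimes G, ∃ d ∈ charDegrees G, v ∣ d ∧ (a ∣ d ∨ b ∣ d)) :
    Nat.card ((degreeGraph G).induce (degreePrimes G)).ConnectedComponent ≤ 2 := by
  classical
  let H := (degreeGraph G).induce (degreePrimes G)
  let f : H.ConnectedComponent → Bool := fun C =>
    decide (∃ ha' : a ∈ degreePrimes G, C = H.connectedComponentMk ⟨a, ha'⟩)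
  have key : ∀ C : H.ConnectedComponent,
      (∃ ha' : a ∈ degreePrimes G, C = H.connectedComponentMk ⟨a, ha'⟩) ∨
      (∃ hb' : b ∈ degreePrimes G, C = H.connectedComponentMk ⟨b, hb'⟩) := by
    intro C
    induction C using SimpleGraph.ConnectedComponent.ind with
    | h v =>
      obtain ⟨d, hd, hvd, hd'⟩ := h v.1 v.2
      rcases hd' with hd' | hd'
      · exact Or.inl ⟨_, SimpleGraph.ConnectedComponent.sound (reach_of_dvd hd v.2.1 ha hvd hd')⟩
      · exact Or.inr ⟨_, SimpleGraph.ConnectedComponent.sound (reach_of_dvd hd v.2.1 hb hvd hd')⟩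
  have hf : Function.Injective f := by
    intro C D hCD
    have hiff := decide_eq_decide.1 hCD
    rcases key C with ⟨h1, e1⟩ | ⟨h1, e1⟩
    · obtain ⟨h2, e2⟩ := hiff.1 ⟨h1, e1⟩
      exact e1.trans e2.symm
    · rcases key D with ⟨h2, e2⟩ | ⟨h2, e2⟩
      · obtain ⟨h3, e3⟩ := hiff.2 ⟨h2, e2⟩
        exact e3.trans e2.symm
      · exact e1.trans e2.symm
  calc Nat.card H.ConnectedComponent ≤ Nat.card Bool := Nat.card_le_card_of_injective f hf
    _ = 2 := by simp

end Graph

section Chars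

variable {G : Type u} [Group G] [Fintype G]

theorem mem_charDegrees {f : G → ℂ} {d : ℕ} (hf : IsIrrCharacter G f) (hd : f 1 = (d : ℂ)) :
    d ∈ charDegrees G :=
  ⟨⟨f, hf⟩, by simp [charDegree, hd]⟩

/-- A character of degree prime to `s` stays irreducible on a normal subgroup of `s`-power index. -/
theorem isIrr_res_of_index_pow (L : Subgroup G) [L.Normal] [Fintype L] {s k : ℕ} (hs : s.Prime)
    (hL : L.index = s ^ k) (φ : IrrCharacter G) (hφ : ¬ s ∣ charDegree (φ : G → ℂ)) :
    IsIrrCharacter L (fun l : L => (φ : G → ℂ) l) := by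
  have hf : IsCharacter L fun l : L => (φ : G → ℂ) l :=
    isCharacter_comp (isCharacter_irr φ) L.subtype
  obtain ⟨θ, hθ⟩ := exists_irr_inner_ne_zero hf fun h => irr_one_ne_zero φ (congrFun h 1)
  obtain ⟨hd, hr⟩ :=
    ratio_dvd_index L φ.2 θ.2 hθ (Block.charDegree_eq φ).1 (Block.charDegree_eq θ).1
  rw [hL] at hr
  have h1 : charDegree (θ : L → ℂ) = charDegree (φ : G → ℂ) := by
    refine Nat.eq_of_dvd_of_div_eq_one hd ?_
    exact Nat.eq_one_of_dvd_coprimes (Nat.Coprime.pow_right k (hs.coprime_iff_not_dvd.2 hφ).symm)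
      (Nat.div_dvd_of_dvd hd) hr
  have h2 : (fun l : L => (φ : G → ℂ) l) = (θ : L → ℂ) := by
    refine (degree_le_of_constituent hf θ hθ (a := charDegree (φ : G → ℂ)) ?_
      (Block.charDegree_eq θ).1).2 h1.symm
    show (φ : G → ℂ) ((1 : L) : G) = _
    rw [OneMemClass.coe_one]
    exact (Block.charDegree_eq φ).1
  rw [h2]
  exact θ.2

/-- Multiplying by a character of the quotient preserves irreducibility. -/
theorem isIrr_mul_quot (L : Subgroup G) [L.Normal] [Fintype L] [Fintype (G ⧸ L)]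
    (χ : IrrCharacter G) (hχ : IsIrrCharacter L (fun l : L => (χ : G → ℂ) l))
    (β : IrrCharacter (G ⧸ L)) :
    IsIrrCharacter G (fun g => (χ : G → ℂ) g * (β : G ⧸ L → ℂ) (g : G ⧸ L)) := by
  set b : G → ℂ := fun g => (β : G ⧸ L → ℂ) (g : G ⧸ L) with hb
  have hbi : IsIrrCharacter G b :=
    isIrrCharacter_comp_surjective β.2 (QuotientGroup.mk' L) (QuotientGroup.mk'_surjective L)
  have hconst : ∀ (n : L) (g : G), b ((n : G) * g) = b g := fun n g => by
    simp only [hb]
    rw [QuotientGroup.mk_mul, (QuotientGroup.eq_one_iff (n : G)).2 n.2, one_mul]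
  refine isIrr_of_isCharacter_norm_one
    (isCharacter_mul (isCharacter_irr χ) (isCharacter_of_isIrr hbi)) ?_
  show classInner ((χ : G → ℂ) * b) ((χ : G → ℂ) * b) = 1
  have h1 : classInner ((χ : G → ℂ) * b) ((χ : G → ℂ) * b) = (Nat.card G : ℂ)⁻¹ *
      ∑ g : G, ((fun x => (χ : G → ℂ) x * conj ((χ : G → ℂ) x)) *
        (fun x => b x * conj (b x))) g := by
    rw [classInner]
    congr 1
    refine Finset.sum_congr rfl fun g _ => ?_
    simp only [Pi.mul_apply, map_mul]
    ring
  rw [h1, ← sum_cosetAvg L, cosetAvg_mul_const L _ (fun n g => by simp only [hconst]),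
    cosetAvg_self_eq_one L χ hχ]
  simpa [classInner] using classInner_irr_self ⟨b, hbi⟩

/-- An irreducible restriction separates the linear twists by the quotient. -/
theorem twist_eq_one (L : Subgroup G) [L.Normal] [Fintype L] (χ : IrrCharacter G)
    (hχ : IsIrrCharacter L (fun l : L => (χ : G → ℂ) l)) (f : G →* ℂˣ)
    (hf : ∀ l ∈ L, f l = 1) (h : ∀ g, (f g : ℂ) * (χ : G → ℂ) g = (χ : G → ℂ) g) (g : G) :
    f g = 1 := by
  obtain ⟨n, hn⟩ : ∃ n : L, (χ : G → ℂ) ((n : G) * g) ≠ 0 := by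
    by_contra hc
    push Not at hc
    have h1 := congrFun (cosetAvg_self_eq_one L χ hχ) g
    simp [cosetAvg, hc] at h1
  have h2 := (mul_eq_right₀ hn).1 (h ((n : G) * g))
  rw [map_mul, hf n n.2, one_mul] at h2
  exact Units.ext h2

end Chars

section Groups

variable {Q : Type u} [Group Q]

/-- Outside `V = Q'`, an element fixing a nontrivial element of `V` centralizes all of `V`. -/
theorem fixed_dichotomy (hVc : ∀ a ∈ commutator Q, ∀ b ∈ commutator Q, a * b = b * a)
    (huniq : ∀ W : Subgroup Q, W.Normal → W ≠ ⊥ → commutator Q ≤ W) (q : Q) :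
    (∀ v ∈ commutator Q, q * v * q⁻¹ = v → v = 1) ∨ ∀ v ∈ commutator Q, q * v * q⁻¹ = v := by
  let W : Subgroup Q := commutator Q ⊓ Subgroup.centralizer {q}
  have hmem : ∀ v, v ∈ W ↔ v ∈ commutator Q ∧ q * v * q⁻¹ = v := fun v => by
    simp only [W, Subgroup.mem_inf, Subgroup.mem_centralizer_singleton_iff, mul_inv_eq_iff_eq_mul]
    exact and_congr_right fun _ => eq_comm
  have hW : W.Normal := ⟨fun v hv g => by
    rw [hmem] at hv ⊢
    have hgv : g * v * g⁻¹ ∈ commutator Q :=
      (inferInstance : (commutator Q).Normal).conj_mem v hv.1 g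
    refine ⟨hgv, ?_⟩
    have hc : q * g * q⁻¹ * g⁻¹ ∈ commutator Q :=
      Subgroup.commutator_mem_commutator (Subgroup.mem_top q) (Subgroup.mem_top g)
    calc q * (g * v * g⁻¹) * q⁻¹
        = (q * g * q⁻¹ * g⁻¹) * (g * (q * v * q⁻¹) * g⁻¹) * (q * g * q⁻¹ * g⁻¹)⁻¹ := by group
      _ = g * v * g⁻¹ := by rw [hv.2, hVc _ hc _ hgv, mul_inv_cancel_right]⟩
  by_cases hb : W = ⊥
  · exact Or.inl fun v hv h => Subgroup.mem_bot.1 (hb ▸ (hmem v).2 ⟨hv, h⟩)
  · exact Or.inr fun v hv => ((hmem v).1 (huniq W hW hb hv)).2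

/-- A noncentral `V = Q'` is its own centralizer. -/
theorem centralizer_le [Finite Q] (hVc : ∀ a ∈ commutator Q, ∀ b ∈ commutator Q, a * b = b * a)
    (huniq : ∀ W : Subgroup Q, W.Normal → W ≠ ⊥ → commutator Q ≤ W)
    (hnc : ¬ commutator Q ≤ Subgroup.center Q) {x : Q}
    (hx : ∀ v ∈ commutator Q, x * v * x⁻¹ = v) : x ∈ commutator Q := by
  have hZ : Subgroup.center Q = ⊥ := by
    by_contra h
    exact hnc (huniq _ inferInstance h)
  obtain ⟨v0, hv0, hv0'⟩ := SetLike.not_le_iff_exists.1 hnc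
  obtain ⟨h, hh⟩ : ∃ h : Q, h * v0 * h⁻¹ ≠ v0 := by
    by_contra hc
    push Not at hc
    exact hv0' (Subgroup.mem_center_iff.2 fun g => mul_inv_eq_iff_eq_mul.1 (hc g))
  have hfree := (fixed_dichotomy hVc huniq h).resolve_right fun hall => hh (hall v0 hv0)
  let D : commutator Q → commutator Q := fun v =>
    ⟨h * (v : Q) * h⁻¹ * (v : Q)⁻¹, mul_mem ((inferInstance : (commutator Q).Normal).conj_mem _ v.2 h)
      (inv_mem v.2)⟩
  have hD : Function.Injective D := by
    intro a b hab
    have e : h * (a : Q) * h⁻¹ * (a : Q)⁻¹ = h * (b : Q) * h⁻¹ * (b : Q)⁻¹ :=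
      congrArg Subtype.val hab
    have hab' : (b : Q)⁻¹ * a ∈ commutator Q := mul_mem (inv_mem b.2) a.2
    have e' := hfree _ hab' (by
      calc h * ((b : Q)⁻¹ * a) * h⁻¹
          = (h * (b : Q) * h⁻¹)⁻¹ * (h * (a : Q) * h⁻¹ * (a : Q)⁻¹) * a := by group
        _ = (b : Q)⁻¹ * a := by rw [e]; group)
    exact Subtype.ext (inv_mul_eq_one.1 e').symm
  have hxh : h * x * h⁻¹ * x⁻¹ ∈ commutator Q :=
    Subgroup.commutator_mem_commutator (Subgroup.mem_top h) (Subgroup.mem_top x)
  obtain ⟨v, hv⟩ := (Finite.injective_iff_surjective.1 hD) ⟨_, hxh⟩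
  have hv' : h * (v : Q) * h⁻¹ * (v : Q)⁻¹ = h * x * h⁻¹ * x⁻¹ := congrArg Subtype.val hv
  set y := (v : Q)⁻¹ * x with hy
  have hyh : h * y * h⁻¹ = y := by
    calc h * y * h⁻¹ = (h * (v : Q) * h⁻¹)⁻¹ * (h * x * h⁻¹ * x⁻¹) * x := by rw [hy]; group
      _ = y := by rw [← hv', hy]; group
  have hyc : ∀ w ∈ commutator Q, y * w * y⁻¹ = w := fun w hw => by
    calc y * w * y⁻¹ = (v : Q)⁻¹ * (x * w * x⁻¹) * v := by rw [hy]; group
      _ = w := by rw [hx w hw, mul_assoc, hVc w hw v v.2, inv_mul_cancel_left]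
  have hyZ : y ∈ Subgroup.center Q := Subgroup.mem_center_iff.2 fun g => by
    have hc : g * y * g⁻¹ * y⁻¹ ∈ commutator Q :=
      Subgroup.commutator_mem_commutator (Subgroup.mem_top g) (Subgroup.mem_top y)
    have hk : h * g * h⁻¹ * g⁻¹ ∈ commutator Q :=
      Subgroup.commutator_mem_commutator (Subgroup.mem_top h) (Subgroup.mem_top g)
    have h1 := hfree _ hc (by
      calc h * (g * y * g⁻¹ * y⁻¹) * h⁻¹
          = (h * g * h⁻¹) * (h * y * h⁻¹) * (h * g * h⁻¹)⁻¹ * (h * y * h⁻¹)⁻¹ := by group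
        _ = (h * g * h⁻¹ * g⁻¹) * (g * y * g⁻¹ * y⁻¹) *
              (y * (h * g * h⁻¹ * g⁻¹)⁻¹ * y⁻¹) := by rw [hyh]; group
        _ = g * y * g⁻¹ * y⁻¹ := by
              rw [hyc _ (inv_mem hk), hVc _ hk _ hc, mul_inv_cancel_right])
    exact mul_inv_eq_iff_eq_mul.1 (mul_inv_eq_one.1 h1)
  rw [hZ, Subgroup.mem_bot, hy, inv_mul_eq_one] at hyZ
  exact hyZ ▸ v.2

/-- With central commutator of prime exponent as unique minimal normal subgroup, `Q` is an
`s`-group. -/
theorem card_eq_pow [Finite Q] {s : ℕ} (hs : s.Prime) (hV : commutator Q ≠ ⊥)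
    (hexp : ∀ v ∈ commutator Q, v ^ s = 1)
    (huniq : ∀ W : Subgroup Q, W.Normal → W ≠ ⊥ → commutator Q ≤ W)
    (hc : commutator Q ≤ Subgroup.center Q) : ∃ k, Nat.card Q = s ^ k := by
  refine ⟨_, Nat.eq_prime_pow_of_unique_prime_dvd Nat.card_pos.ne' fun {r} hr hrd => ?_⟩
  by_contra hne
  have := Fact.mk hr
  obtain ⟨x, hx⟩ := exists_prime_orderOf_dvd_card' r hrd
  have hxs : x ^ s ∈ Subgroup.center Q := Subgroup.mem_center_iff.2 fun y => by
    have hcm : y * x * y⁻¹ * x⁻¹ ∈ commutator Q :=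
      Subgroup.commutator_mem_commutator (Subgroup.mem_top y) (Subgroup.mem_top x)
    have hcz := hc hcm
    have e : y * x ^ s * y⁻¹ = x ^ s := by
      calc y * x ^ s * y⁻¹ = (y * x * y⁻¹) ^ s := conj_pow.symm
        _ = (y * x * y⁻¹ * x⁻¹ * x) ^ s := by rw [inv_mul_cancel_right]
        _ = (y * x * y⁻¹ * x⁻¹) ^ s * x ^ s :=
              (show Commute (y * x * y⁻¹ * x⁻¹) x from
                (Subgroup.mem_center_iff.1 hcz x).symm).mul_pow s
        _ = x ^ s := by rw [hexp _ hcm, one_mul]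
    exact mul_inv_eq_iff_eq_mul.1 e
  have hord : orderOf (x ^ s) = r := by
    rw [Nat.Coprime.orderOf_pow, hx]
    rw [hx]
    exact (Nat.coprime_primes hr hs).2 hne
  have hW : (Subgroup.zpowers (x ^ s)).Normal := ⟨fun a ha g => by
    have hac : a ∈ Subgroup.center Q := Subgroup.zpowers_le.2 hxs ha
    rw [Subgroup.mem_center_iff.1 hac g, mul_inv_cancel_right]
    exact ha⟩
  have hW1 : Subgroup.zpowers (x ^ s) ≠ ⊥ := fun h => by
    rw [Subgroup.zpowers_eq_bot] at h
    rw [h, orderOf_one] at hord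
    exact hr.one_lt.ne hord
  refine hV ((Subgroup.eq_bot_iff_forall _).2 fun v hv => ?_)
  have h1 : orderOf v ∣ r := hord ▸ orderOf_dvd_of_mem_zpowers (huniq _ hW hW1 hv)
  have h2 : orderOf v ∣ s := orderOf_dvd_of_pow_eq_one (hexp v hv)
  exact orderOf_eq_one_iff.1 (Nat.eq_one_of_dvd_coprimes ((Nat.coprime_primes hr hs).2 hne) h1 h2)

end Groups

section Main

variable {G : Type u} [Group G] [Fintype G] (N : Subgroup G) [N.Normal]

/-- The preimage of the commutator of the quotient. -/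
abbrev top2 : Subgroup G := (commutator (G ⧸ N)).comap (QuotientGroup.mk' N)

/-- Conjugation by the image of `g` on the commutator of the quotient. -/
noncomputable def act (g : G) : commutator (G ⧸ N) →* commutator (G ⧸ N) :=
  (MulAut.conjNormal (QuotientGroup.mk' N g)).toMonoidHom

/-- The projection onto the commutator of the quotient. -/
noncomputable def proj : top2 N →* commutator (G ⧸ N) :=
  (QuotientGroup.mk' N).subgroupComap _

theorem proj_surjective : Function.Surjective (proj N) :=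
  MonoidHom.subgroupComap_surjective_of_surjective _ _ (QuotientGroup.mk'_surjective N)

theorem proj_conj (g : G) (j : top2 N) :
    proj N ⟨g * (j : G) * g⁻¹, (inferInstance : (top2 N).Normal).conj_mem _ j.2 g⟩ =
      act N g (proj N j) := by
  refine Subtype.ext ?_
  show QuotientGroup.mk' N (g * (j : G) * g⁻¹) = _
  rw [map_mul, map_mul, map_inv]
  rfl

/-- Some twist of `ψ` has inertia group `top2 N`. -/
theorem exists_degree_index_mul
    (hVc : ∀ a ∈ commutator (G ⧸ N), ∀ b ∈ commutator (G ⧸ N), a * b = b * a)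
    (hV : commutator (G ⧸ N) ≠ ⊥)
    (huniq : ∀ W : Subgroup (G ⧸ N), W.Normal → W ≠ ⊥ → commutator (G ⧸ N) ≤ W)
    (hnc : ¬ commutator (G ⧸ N) ≤ Subgroup.center (G ⧸ N)) [Fintype (top2 N)]
    (ψ : IrrCharacter (top2 N)) [Fintype (proj N).ker]
    (hψ : IsIrrCharacter (proj N).ker (fun l => (ψ : top2 N → ℂ) l)) :
    (top2 N).index * charDegree (ψ : top2 N → ℂ) ∈ charDegrees G := by
  classical
  have hsurj := proj_surjective N
  let tw : (commutator (G ⧸ N) →* ℂˣ) → IrrCharacter (top2 N) := fun φ =>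
    ⟨fun k => ((φ.comp (proj N)) k : ℂ) * (ψ : top2 N → ℂ) k,
      isIrrCharacter_mul_linear ψ (φ.comp (proj N))⟩
  -- one element fixes at most one twist
  have key : ∀ (g : G), g ∉ top2 N → ∀ φ φ' : commutator (G ⧸ N) →* ℂˣ,
      conjFun (top2 N) (tw φ : top2 N → ℂ) g = tw φ →
      conjFun (top2 N) (tw φ' : top2 N → ℂ) g = tw φ' → φ = φ' := by
    intro g hg φ φ' h h'
    set ν := φ' * φ⁻¹ with hν
    have hν' : φ' = ν * φ := MonoidHom.ext fun x => by simp [hν]
    have hfix : ∀ v, ν (act N g v) = ν v := by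
      intro v
      obtain ⟨k, rfl⟩ := hsurj v
      have := twist_eq_one (proj N).ker ψ hψ
        (((ν.comp (act N g)) * ν⁻¹).comp (proj N))
        (fun l hl => by
          rw [MonoidHom.mem_ker] at hl
          simp [hl]) ?_ k
      · simp only [MonoidHom.comp_apply, MonoidHom.mul_apply, MonoidHom.inv_apply,
          mul_inv_eq_one] at this
        exact this
      intro j
      have e : ∀ μ : commutator (G ⧸ N) →* ℂˣ,
          conjFun (top2 N) (tw μ : top2 N → ℂ) g j =
            (μ (act N g (proj N j)) : ℂ) * conjFun (top2 N) (ψ : top2 N → ℂ) g j := by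
        intro μ
        show ((μ.comp (proj N)) ⟨g * j * g⁻¹, _⟩ : ℂ) * _ = _
        exact congrArg (fun z => ((μ z : ℂˣ) : ℂ) * _) (proj_conj N _ j)
      have e1 : (φ (act N g (proj N j)) : ℂ) * conjFun (top2 N) (ψ : top2 N → ℂ) g j =
          (φ (proj N j) : ℂ) * (ψ : top2 N → ℂ) j := (e φ).symm.trans (congrFun h j)
      have e2 : (φ' (act N g (proj N j)) : ℂ) * conjFun (top2 N) (ψ : top2 N → ℂ) g j =
          (φ' (proj N j) : ℂ) * (ψ : top2 N → ℂ) j := (e φ').symm.trans (congrFun h' j)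
      rw [hν'] at e2
      simp only [MonoidHom.mul_apply, Units.val_mul, mul_assoc] at e2
      rw [e1] at e2
      have e3 : (ν (act N g (proj N j)) : ℂ) * (ψ : top2 N → ℂ) j =
          (ν (proj N j) : ℂ) * (ψ : top2 N → ℂ) j := by
        refine mul_left_cancel₀ (φ (proj N j)).ne_zero ?_
        linear_combination e2
      simp only [MonoidHom.comp_apply, MonoidHom.mul_apply, MonoidHom.inv_apply, Units.val_mul]
      rw [mul_assoc, mul_comm ((ν (proj N j))⁻¹ : ℂˣ).val, ← mul_assoc, e3,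
        mul_comm (ν (proj N j) : ℂ), mul_assoc, ← Units.val_mul, mul_inv_cancel, Units.val_one,
        mul_one]
    have hfree : ∀ v ∈ commutator (G ⧸ N),
        QuotientGroup.mk' N g * v * (QuotientGroup.mk' N g)⁻¹ = v → v = 1 :=
      (fixed_dichotomy hVc huniq _).resolve_right fun hall =>
        hg (centralizer_le hVc huniq hnc hall)
    have hν1 : ν = 1 := by
      refine MonoidHom.ext fun v => ?_
      have hinj : Function.Injective fun w : commutator (G ⧸ N) => act N g w * w⁻¹ := by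
        intro a b hab
        have hcm : ∀ x y : commutator (G ⧸ N), x * y = y * x := fun x y =>
          Subtype.ext (hVc _ x.2 _ y.2)
        have : act N g (b⁻¹ * a) = b⁻¹ * a := by
          rw [map_mul, map_inv]
          have hab' : act N g a * a⁻¹ = act N g b * b⁻¹ := hab
          calc (act N g b)⁻¹ * act N g a = (act N g b)⁻¹ * (act N g a * a⁻¹) * a := by group
            _ = b⁻¹ * a := by rw [hab']; group
        have h1 := hfree _ (b⁻¹ * a).2 (congrArg Subtype.val this)
        exact (inv_mul_eq_one.1 (Subtype.ext h1)).symm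
      obtain ⟨w, rfl⟩ := (Finite.injective_iff_surjective.1 hinj) v
      rw [map_mul, map_inv, hfix, mul_inv_cancel, MonoidHom.one_apply]
    rw [hν', hν1]
    exact MonoidHom.ext fun x => by simp
  obtain ⟨φ, hφ⟩ : ∃ φ, inertia (top2 N) (tw φ : top2 N → ℂ) = top2 N := by
    by_contra hc
    push Not at hc
    have hex : ∀ φ, ∃ g, g ∉ top2 N ∧ conjFun (top2 N) (tw φ : top2 N → ℂ) g = tw φ := fun φ => by
      by_contra hc'
      push Not at hc'
      refine hc φ (le_antisymm (fun g hg => ?_)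
        (le_inertia _ (isClassFunction_of_isCharacter (isCharacter_irr (tw φ)))))
      by_contra hg'
      exact hc' g hg' hg
    obtain ⟨v, hv, hv1⟩ := (Subgroup.ne_bot_iff_exists_ne_one).1 hV |>.imp fun v hv => And.intro v.2 hv
    let cg : CommGroup (commutator (G ⧸ N)) :=
      { (inferInstance : Group (commutator (G ⧸ N))) with
        mul_comm := fun a b => Subtype.ext (hVc _ a.2 _ b.2) }
    obtain ⟨φ2, hφ2⟩ := @CommGroup.exists_apply_ne_one_of_hasEnoughRootsOfUnity
      (commutator (G ⧸ N)) ℂ cg _ _ inferInstance v hv1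
    obtain ⟨g, hg, hga⟩ := hex 1
    obtain ⟨h, hh, hhb⟩ := hex φ2
    set a := (tw 1 : top2 N → ℂ) with ha
    set φ3 := (φ2.comp (act N h))⁻¹ * φ2 with hφ3
    have hah : conjFun (top2 N) a h = tw φ3 := by
      funext k
      have e2 := congrFun hhb k
      have e : ∀ μ : commutator (G ⧸ N) →* ℂˣ, conjFun (top2 N) (tw μ : top2 N → ℂ) h k =
          (μ (act N h (proj N k)) : ℂ) * conjFun (top2 N) (ψ : top2 N → ℂ) h k := by
        intro μ
        show ((μ.comp (proj N)) ⟨h * k * h⁻¹, _⟩ : ℂ) * _ = _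
        exact congrArg (fun z => ((μ z : ℂˣ) : ℂ) * _) (proj_conj N _ k)
      rw [e] at e2
      rw [ha, e, MonoidHom.one_apply, Units.val_one, one_mul]
      show _ = ((φ3.comp (proj N)) k : ℂ) * (ψ : top2 N → ℂ) k
      rw [hφ3]
      simp only [MonoidHom.comp_apply, MonoidHom.mul_apply, MonoidHom.inv_apply, Units.val_mul]
      rw [mul_assoc]
      show _ = _ * (((φ2.comp (proj N)) k : ℂ) * _)
      rw [show ((φ2.comp (proj N)) k : ℂ) * (ψ : top2 N → ℂ) k = (φ2 (act N h (proj N k)) : ℂ) *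
        conjFun (top2 N) (ψ : top2 N → ℂ) h k from e2.symm, ← mul_assoc, ← Units.val_mul,
        inv_mul_cancel, Units.val_one, one_mul]
    have hcl : IsClassFunction (top2 N) a :=
      isClassFunction_of_isCharacter (isCharacter_irr (tw 1))
    have hg3 : conjFun (top2 N) (tw φ3 : top2 N → ℂ) g = tw φ3 := by
      rw [← hah, ← conjFun_mul]
      have hcK : h * g * h⁻¹ * g⁻¹ ∈ top2 N := by
        show QuotientGroup.mk' N _ ∈ commutator (G ⧸ N)
        simp only [map_mul, map_inv]
        exact Subgroup.commutator_mem_commutator (Subgroup.mem_top _) (Subgroup.mem_top _)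
      rw [show h * g = (h * g * h⁻¹ * g⁻¹) * (g * h) by group, conjFun_mul,
        show conjFun (top2 N) a (h * g * h⁻¹ * g⁻¹) = a from le_inertia _ hcl hcK, conjFun_mul, hga]
    have h13 : (1 : commutator (G ⧸ N) →* ℂˣ) = φ3 := key g hg _ _ hga hg3
    have h12 : (1 : commutator (G ⧸ N) →* ℂˣ) = φ2 := key h hh _ _ (by rw [← ha, hah, ← h13]) hhb
    exact hφ2 (by rw [← h12]; rfl)
  have hirr : IsIrrCharacter G (indFun (top2 N) (tw φ : top2 N → ℂ)) := by
    refine isIrr_of_isCharacter_norm_one (isCharacter_indFun _ (isCharacter_irr (tw φ))) ?_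
    have h := card_smul_classInner_indFun_self (top2 N) (tw φ).2
    rw [hφ] at h
    exact (mul_eq_left₀ (by exact_mod_cast Nat.card_pos.ne')).mp h
  refine mem_charDegrees hirr ?_
  rw [indFun_one, Nat.cast_mul]
  show _ * (((φ.comp (proj N)) 1 : ℂ) * (ψ : top2 N → ℂ) 1) = _
  rw [map_one, Units.val_one, one_mul, (Block.charDegree_eq ψ).1]

end Main

/-- The degree graph of a finite solvable group has at most two components. -/
theorem card_components_le_two {G : Type u} [Group G] [Finite G] [Group.IsSolvable G] :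
    Nat.card ((degreeGraph G).induce (degreePrimes G)).ConnectedComponent ≤ 2 := by
  classical
  have := Fintype.ofFinite G
  by_cases hab : ∀ a b : G, a * b = b * a
  · have hempty : IsEmpty (degreePrimes G) := ⟨fun ⟨p, hp, d, ⟨χ, hχ⟩, hpd⟩ => hp.ne_one (by
      have h1 : charDegree (χ : G → ℂ) = 1 := by simp [charDegree, degree_one_of_comm hab χ]
      rw [← hχ, h1, Nat.dvd_one] at hpd
      exact hpd)⟩
    have : IsEmpty ((degreeGraph G).induce (degreePrimes G)).ConnectedComponent :=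
      ⟨fun C => C.ind fun v => hempty.false v⟩
    simp
  obtain ⟨N, ⟨hN, hNab⟩, hmax⟩ : ∃ N : Subgroup G, (N.Normal ∧ ¬ commutator G ≤ N) ∧
      ∀ M : Subgroup G, M.Normal ∧ ¬ commutator G ≤ M → ¬ N < M := by
    refine (Finite.to_wellFoundedGT : WellFoundedGT (Subgroup G)).wf.has_min
      {M : Subgroup G | M.Normal ∧ ¬ commutator G ≤ M} ⟨⊥, inferInstance, fun h => hab fun a b => ?_⟩
    have := h (Subgroup.commutator_mem_commutator (Subgroup.mem_top a) (Subgroup.mem_top b))
    rw [Subgroup.mem_bot, commutatorElement_eq_one_iff_mul_comm] at this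
    exact this
  have := Fintype.ofFinite (G ⧸ N)
  have hmk := QuotientGroup.mk'_surjective N
  have hmap : (commutator G).map (QuotientGroup.mk' N) = commutator (G ⧸ N) := by
    rw [commutator_def, commutator_def, Subgroup.map_commutator,
      Subgroup.map_top_of_surjective _ hmk]
  have hV : commutator (G ⧸ N) ≠ ⊥ := fun h => hNab fun x hx => by
    have := hmap ▸ Subgroup.mem_map_of_mem (QuotientGroup.mk' N) hx
    rw [h, Subgroup.mem_bot] at this
    exact (QuotientGroup.eq_one_iff x).1 this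
  have huniq : ∀ W : Subgroup (G ⧸ N), W.Normal → W ≠ ⊥ → commutator (G ⧸ N) ≤ W := by
    intro W hW hW1
    by_contra hle
    refine hmax (W.comap (QuotientGroup.mk' N)) ⟨hW.comap _, fun h => hle ?_⟩ ?_
    · rw [← hmap]; exact Subgroup.map_le_iff_le_comap.2 h
    · refine lt_of_le_of_ne (fun x hx => ?_) fun h => hW1 ?_
      · show QuotientGroup.mk' N x ∈ W
        rw [QuotientGroup.mk'_apply, (QuotientGroup.eq_one_iff x).2 hx]
        exact one_mem W
      · refine (Subgroup.eq_bot_iff_forall _).2 fun w hw => ?_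
        obtain ⟨x, rfl⟩ := hmk w
        exact (QuotientGroup.eq_one_iff x).2 (h ▸ hw)
  have hQs : Group.IsSolvable (G ⧸ N) := inferInstance
  have hVc : ∀ a ∈ commutator (G ⧸ N), ∀ b ∈ commutator (G ⧸ N), a * b = b * a := by
    have hbot : ⁅commutator (G ⧸ N), commutator (G ⧸ N)⁆ = ⊥ := by
      by_contra h
      have h1 := huniq _ inferInstance h
      obtain ⟨n, hn⟩ := (Group.isSolvable_def (G ⧸ N)).1 hQs
      have h2 : ∀ m, commutator (G ⧸ N) ≤ derivedSeries (G ⧸ N) m := by
        intro m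
        induction m with
        | zero => simp
        | succ m ih => exact h1.trans (Subgroup.commutator_mono ih ih)
      exact hV (eq_bot_iff.2 (hn ▸ h2 n))
    intro a ha b hb
    have := hbot ▸ Subgroup.commutator_mem_commutator ha hb
    rwa [Subgroup.mem_bot, commutatorElement_eq_one_iff_mul_comm] at this
  -- the prime `s`
  have hcard : Nat.card (commutator (G ⧸ N)) ≠ 1 := fun h =>
    hV (Subgroup.card_eq_one.1 h)
  obtain ⟨s, hs, hsd⟩ := Nat.exists_prime_and_dvd hcard
  have hexp : ∀ v ∈ commutator (G ⧸ N), v ^ s = 1 := by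
    let W : Subgroup (G ⧸ N) :=
      { carrier := {v | v ∈ commutator (G ⧸ N) ∧ v ^ s = 1}
        one_mem' := ⟨one_mem _, one_pow _⟩
        mul_mem' := fun {a b} ha hb => ⟨mul_mem ha.1 hb.1, by
          rw [(show Commute a b from hVc _ ha.1 _ hb.1).mul_pow, ha.2, hb.2, one_mul]⟩
        inv_mem' := fun {a} ha => ⟨inv_mem ha.1, by rw [inv_pow, ha.2, inv_one]⟩ }
    have hWn : W.Normal := ⟨fun v hv g =>
      ⟨(inferInstance : (commutator (G ⧸ N)).Normal).conj_mem v hv.1 g, by
        rw [conj_pow, hv.2, mul_one, mul_inv_cancel]⟩⟩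
    have := Fact.mk hs
    obtain ⟨x, hx⟩ := exists_prime_orderOf_dvd_card' s hsd
    have hxW : (x : G ⧸ N) ∈ W := ⟨x.2, by
      rw [← SubgroupClass.coe_pow, ← hx, pow_orderOf_eq_one]; rfl⟩
    have hW1 : W ≠ ⊥ := fun h => by
      rw [h, Subgroup.mem_bot, OneMemClass.coe_eq_one] at hxW
      rw [hxW, orderOf_one] at hx
      exact hs.one_lt.ne hx
    exact fun v hv => (huniq W hWn hW1 hv).2
  by_cases hc : commutator (G ⧸ N) ≤ Subgroup.center (G ⧸ N)
  · obtain ⟨k, hk⟩ := card_eq_pow hs hV hexp huniq hc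
    obtain ⟨β, hβ⟩ : ∃ β : IrrCharacter (G ⧸ N), (β : G ⧸ N → ℂ) 1 ≠ 1 := by
      by_contra h
      push Not at h
      refine hV ((Subgroup.eq_bot_iff_forall _).2 fun v hv => ?_)
      have : commutator (G ⧸ N) ≤ ⊥ := by
        rw [commutator_def, Subgroup.commutator_le]
        intro a _ b _
        rw [Subgroup.mem_bot, commutatorElement_eq_one_iff_mul_comm]
        exact comm_of_degree_one h a b
      exact Subgroup.mem_bot.1 (this hv)
    have hsb : s ∣ charDegree (β : G ⧸ N → ℂ) := by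
      obtain ⟨n, ρ, hρ, hρe⟩ := β.2
      have hd1 : (charDegree (β : G ⧸ N → ℂ) : ℂ) = (n : ℂ) := by
        rw [← (Block.charDegree_eq β).1, ← hρe, Representation.char_one, Module.finrank_fin_fun]
      have hd2 : charDegree (β : G ⧸ N → ℂ) = n := by exact_mod_cast hd1
      have hdvd := finrank_dvd_index_center ρ
      rw [Module.finrank_fin_fun] at hdvd
      have hd3 : n ∣ s ^ k := hk ▸ hdvd.trans (Subgroup.index_dvd_card _)
      obtain ⟨i, -, rfl⟩ := (Nat.dvd_prime_pow hs).1 hd3
      rcases Nat.eq_zero_or_pos i with rfl | hi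
      · exact absurd (by rw [(Block.charDegree_eq β).1, hd2]; simp) hβ
      · rw [hd2]; exact dvd_pow_self s hi.ne'
    refine card_comp_le_two s s hs hs ?_
    rintro v ⟨hv, d, ⟨χ, rfl⟩, hvd⟩
    by_cases hsχ : s ∣ charDegree (χ : G → ℂ)
    · exact ⟨_, ⟨χ, rfl⟩, hvd, Or.inl hsχ⟩
    · have := Fintype.ofFinite N
      have hres := isIrr_res_of_index_pow N hs
        (show N.index = s ^ k by rw [Subgroup.index_eq_card, hk]) χ hsχ
      refine ⟨charDegree (χ : G → ℂ) * charDegree (β : G ⧸ N → ℂ),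
        mem_charDegrees (isIrr_mul_quot N χ hres β) ?_, hvd.trans (dvd_mul_right _ _),
        Or.inl (hsb.trans (dvd_mul_left _ _))⟩
      rw [QuotientGroup.mk_one, (Block.charDegree_eq χ).1, (Block.charDegree_eq β).1, Nat.cast_mul]
  · have hidx : (top2 N).index ≠ 1 := fun h => by
      rw [Subgroup.index_eq_one] at h
      refine hc fun v hv => Subgroup.mem_center_iff.2 fun g => ?_
      obtain ⟨x, rfl⟩ := hmk g
      exact hVc _ (show x ∈ top2 N from h ▸ Subgroup.mem_top x) _ hv
    obtain ⟨q, hq, hqd⟩ := Nat.exists_prime_and_dvd hidx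
    refine card_comp_le_two s q hs hq ?_
    rintro v ⟨hv, d, ⟨χ, rfl⟩, hvd⟩
    have := Fintype.ofFinite (top2 N)
    have hf : IsCharacter (top2 N) fun l : top2 N => (χ : G → ℂ) l :=
      isCharacter_comp (isCharacter_irr χ) (top2 N).subtype
    obtain ⟨ψ, hψ⟩ := exists_irr_inner_ne_zero hf fun h => irr_one_ne_zero χ (congrFun h 1)
    obtain ⟨hd, hr⟩ :=
      ratio_dvd_index (top2 N) χ.2 ψ.2 hψ (Block.charDegree_eq χ).1 (Block.charDegree_eq ψ).1
    by_cases hsψ : s ∣ charDegree (ψ : top2 N → ℂ)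
    · exact ⟨_, ⟨χ, rfl⟩, hvd, Or.inl (hsψ.trans hd)⟩
    have hL : ∃ k, (proj N).ker.index = s ^ k := by
      refine ⟨_, Nat.eq_prime_pow_of_unique_prime_dvd Subgroup.index_ne_zero_of_finite
        fun {r} hr' hrd => ?_⟩
      rw [Subgroup.index_ker, Nat.card_congr (Equiv.subtypeUnivEquiv
        (fun v => MonoidHom.mem_range.2 (proj_surjective N v)))] at hrd
      have := Fact.mk hr'
      obtain ⟨x, hx⟩ := exists_prime_orderOf_dvd_card' r hrd
      have h1 : r ∣ s := hx ▸ orderOf_dvd_of_pow_eq_one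
        (Subtype.ext (by simpa using hexp _ x.2) : x ^ s = 1)
      exact (Nat.prime_dvd_prime_iff_eq hr' hs).1 h1
    obtain ⟨k, hk⟩ := hL
    have := Fintype.ofFinite (proj N).ker
    have hres := isIrr_res_of_index_pow (proj N).ker hs hk ψ hsψ
    refine ⟨_, exists_degree_index_mul N hVc hV huniq hc ψ hres,
      hvd.trans ?_, Or.inr (hqd.trans (dvd_mul_right _ _))⟩
    obtain ⟨e, he⟩ := hd
    rw [he, Nat.mul_div_cancel_left _ (Nat.pos_of_ne_zero (Block.charDegree_eq ψ).2)] at hr
    rw [he, mul_comm]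
    exact Nat.mul_dvd_mul_right hr _

end CfsgLib.DegComp
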