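import Cfsg.Agent.Lib.DegComp.Relative
import Cfsg.Agent.Lib.Char.InducedSet
import Cfsg.Agent.Lib.Char.RamifiedFrobenius
import Mathlib.GroupTheory.Solvable

/-!
# The shape of a disconnected common-divisor graph of relative degrees

If the common-divisor graph on `cd(G|N)` is disconnected (`N ≤ G'` solvable), one component
consists of multiples of a prime and the other has diameter at most two.
-/

set_option autoImplicit false
set_option linter.unusedSectionVars false

namespace CfsgLib.DegComp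

open Cfsg CfsgLib CfsgLib.Char Representation

universe u

variable {G : Type u} [Group G] [Fintype G]

/-- Having a common divisor different from one. -/
def Share (a b : ℕ) : Prop := ∃ m, m ≠ 1 ∧ m ∣ a ∧ m ∣ b

theorem Share.symm {a b : ℕ} : Share a b → Share b a := fun ⟨m, h, ha, hb⟩ => ⟨m, h, hb, ha⟩

/-- Joined by at most two edges. -/
def TwoStep (N : Subgroup G) (a b : ℕ) : Prop :=
  Share a b ∨ ∃ c ∈ relCharDegrees N, Share a c ∧ Share c b

theorem TwoStep.mono {M N : Subgroup G} (h : M ≤ N) {a b : ℕ} : TwoStep M a b → TwoStep N a b :=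
  fun h' => h'.imp id fun ⟨c, hc, h1⟩ => ⟨c, relCharDegrees_mono h hc, h1⟩
where
  relCharDegrees_mono {M N : Subgroup G} (h : M ≤ N) {c : ℕ} (hc : c ∈ relCharDegrees M) :
      c ∈ relCharDegrees N :=
    let ⟨χ, ⟨x, hx, hne⟩, he⟩ := hc
    ⟨χ, ⟨x, h hx, hne⟩, he⟩

theorem linked_mono {M N : Subgroup G} [M.Normal] [N.Normal] (h : M ≤ N) {a b : ℕ}
    (hl : Linked M a b) : Linked N a b := by
  obtain ⟨ha, hb, hr⟩ := hl
  exact ⟨TwoStep.mono.relCharDegrees_mono h ha, TwoStep.mono.relCharDegrees_mono h hb,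
    hr.map (SimpleGraph.induceHomOfLE _ fun c hc => TwoStep.mono.relCharDegrees_mono h hc).toHom⟩

variable (N : Subgroup G) [N.Normal] [Fintype N]

/-- Two good characters give two steps. -/
theorem twoStep_of_good (hNG : N ≤ commutator G) {p q : ℕ} (hp : p.Prime) (hq : q.Prime)
    {f h : N →* ℂˣ} (hf : Good N p f) (hh : Good N q h) {a b : ℕ}
    (hfa : (stab N f).index ∣ a) (hhb : (stab N h).index ∣ b) : TwoStep N a b := by
  obtain ⟨⟨hf1, v, hv⟩, hft, hfn⟩ := hf
  obtain ⟨⟨hh1, w, hw⟩, hht, hhn⟩ := hh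
  by_cases hpq : p = q
  · subst hpq
    by_cases hfh : Nat.Coprime (stab N f).index (stab N h).index
    swap
    · obtain ⟨r, hr, hr1, hr2⟩ := Nat.Prime.not_coprime_iff_dvd.1 hfh
      exact Or.inl ⟨r, hr.ne_one, hr1.trans hfa, hr2.trans hhb⟩
    have hne : f * h ≠ 1 := fun e => hft (Nat.eq_one_of_dvd_coprimes hfh dvd_rfl (by
      have he : h = f⁻¹ := MonoidHom.ext fun n => by
        rw [MonoidHom.inv_apply]
        exact eq_inv_of_mul_eq_one_right (DFunLike.congr_fun e n)
      have : stab N h = stab N f := by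
        ext g
        simp only [he, mem_stab, MonoidHom.inv_apply, inv_inj]
      rw [this]))
    obtain ⟨c, hc, hcd, -⟩ := exists_over_linear N hNG (f * h) hne
    have n1 := not_coprime_mul N hp f h ⟨v, hv⟩ hft hhn hfh
    have n2 := not_coprime_mul N hp h f ⟨w, hw⟩ hht hfn hfh.symm
    rw [mul_comm h f] at n2
    obtain ⟨r, hr, hr1, hr2⟩ := Nat.Prime.not_coprime_iff_dvd.1 n1
    obtain ⟨s, hs, hs1, hs2⟩ := Nat.Prime.not_coprime_iff_dvd.1 n2
    exact Or.inr ⟨c, hc, ⟨r, hr.ne_one, hr2.trans hfa, hr1.trans hcd⟩,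
      ⟨s, hs.ne_one, hs1.trans hcd, hs2.trans hhb⟩⟩
  have hcop : Nat.Coprime (p ^ v) (q ^ w) := Nat.Coprime.pow v w ((Nat.coprime_primes hp hq).2 hpq)
  have hl1 : stab N (f * h) ≤ stab N f := by
    have e := stab_le_pow N (f * h) (q ^ w)
    rw [hom_mul_pow, hw, hom_mul_one] at e
    exact e.trans (stab_pow_le N f hv hcop.symm)
  have hl2 : stab N (f * h) ≤ stab N h := by
    have e := stab_le_pow N (f * h) (p ^ v)
    rw [hom_mul_pow, hv, hom_one_mul] at e
    exact e.trans (stab_pow_le N h hw hcop)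
  have hne : f * h ≠ 1 := fun e => hft (Subgroup.index_eq_one.2 (top_le_iff.1 (le_trans
    (fun g _ => (mem_stab N _ g).2 (fun n => by rw [e]; rfl)) hl1)))
  obtain ⟨c, hc, hcd, -⟩ := exists_over_linear N hNG (f * h) hne
  exact Or.inr ⟨c, hc, ⟨_, hft, hfa, (Subgroup.index_dvd_of_le hl1).trans hcd⟩,
    ⟨_, hht, (Subgroup.index_dvd_of_le hl2).trans hcd, hhb⟩⟩

omit [Fintype G] in
theorem derived_lt (M : Subgroup G) [Group.IsSolvable M] (hM : M ≠ ⊥) : ⁅M, M⁆ < M := by
  haveI : Nontrivial M := (Subgroup.nontrivial_iff_ne_bot M).2 hM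
  have h := Group.IsSolvable.commutator_lt_top_of_nontrivial M
  refine lt_of_le_of_ne (Subgroup.commutator_le_self M) fun e => h.ne ?_
  refine Subgroup.map_injective M.subtype_injective ?_
  rw [Subgroup.map_subtype_commutator, e, ← MonoidHom.range_eq_map, Subgroup.range_subtype]

/-- Some degree over the derived subgroup meets the index of the derived subgroup. -/
theorem exists_derived_degree [Group.IsSolvable N] (hNG : N ≤ commutator G) (hN' : ⁅N, N⁆ ≠ ⊥) :
    ∃ d ∈ relCharDegrees ⁅N, N⁆, ∃ q : ℕ, q.Prime ∧ q ∣ ⁅N, N⁆.relIndex N ∧ q ∣ d := by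
  classical
  by_contra hall
  push Not at hall
  have hLN : ⁅N, N⁆ ≤ N := Subgroup.commutator_le_self N
  haveI : Group.IsSolvable ↥⁅N, N⁆ :=
    Group.isSolvable_of_isSolvable_injective (Subgroup.inclusion_injective hLN)
  have := Fintype.ofFinite ↥⁅N, N⁆
  obtain ⟨r, hr, hrd⟩ := Nat.exists_prime_and_dvd
    (fun h => (derived_lt ⁅N, N⁆ hN').not_ge (Subgroup.relIndex_eq_one.1 h) :
      ⁅⁅N, N⁆, ⁅N, N⁆⁆.relIndex ⁅N, N⁆ ≠ 1)
  obtain ⟨f, hf1, -⟩ := exists_pLinear ⁅N, N⁆ hr hrd
  let fc : ↥⁅N, N⁆ → ℂ := fun x => (f x : ℂ)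
  have hfc : IsIrrCharacter ↥⁅N, N⁆ fc := isIrrCharacter_lin f
  -- a character of `G` over `f`
  have hind : IsCharacter G (indFun ⁅N, N⁆ fc) :=
    isCharacter_indFun _ (isCharacter_of_isIrr hfc)
  have h0 : indFun ⁅N, N⁆ fc ≠ 0 := fun h => by
    have h1 := congrFun h 1
    rw [indFun_one, Pi.zero_apply, mul_eq_zero] at h1
    rcases h1 with h1 | h1
    · exact Subgroup.index_ne_zero_of_finite (by exact_mod_cast h1)
    · exact irr_one_ne_zero ⟨_, hfc⟩ h1
  obtain ⟨χ, hχ⟩ := exists_irr_inner_ne_zero hind h0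
  have hcon : classInner (fun n : ↥⁅N, N⁆ => (χ : G → ℂ) n) fc ≠ 0 := by
    intro h
    apply hχ
    rw [classInner_indFun _ _ _ (isClassFunction_of_isCharacter (isCharacter_irr χ)),
      ← classInner_conj, h, map_zero]
  -- pass through `N`
  let L : Subgroup N := ⁅N, N⁆.subgroupOf N
  let e : L ≃* ↥⁅N, N⁆ := Subgroup.subgroupOfEquivOfLe hLN
  have := Fintype.ofFinite (IrrCharacter N)
  have hexp := classFun_expand (isClassFunction_of_isCharacter
    (isCharacter_comp (isCharacter_irr χ) N.subtype))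
  obtain ⟨θ, hθ, hθf⟩ : ∃ θ : IrrCharacter N,
      classInner (fun n : N => (χ : G → ℂ) n) (θ : N → ℂ) ≠ 0 ∧
      classInner (fun x : ↥⁅N, N⁆ => (θ : N → ℂ) (Subgroup.inclusion hLN x)) fc ≠ 0 := by
    by_contra hc
    push Not at hc
    apply hcon
    have hrw : (fun n : ↥⁅N, N⁆ => (χ : G → ℂ) n) = ∑ θ : IrrCharacter N,
        classInner (fun n : N => (χ : G → ℂ) n) (θ : N → ℂ) •
          fun x : ↥⁅N, N⁆ => (θ : N → ℂ) (Subgroup.inclusion hLN x) := funext fun x => by
      refine (congrFun hexp (Subgroup.inclusion hLN x)).trans ?_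
      simp only [Finset.sum_apply, Pi.smul_apply]
      rfl
    rw [hrw, classInner_sum_left]
    refine Finset.sum_eq_zero fun θ _ => ?_
    rw [classInner_smul_left]
    by_cases h : classInner (fun n : N => (χ : G → ℂ) n) (θ : N → ℂ) = 0
    · rw [h, zero_mul]
    · rw [hc θ h, mul_zero]
  have hrel : ∃ x ∈ ⁅N, N⁆, (χ : G → ℂ) x ≠ (χ : G → ℂ) 1 := by
    by_contra hc
    push Not at hc
    apply hcon
    rw [show (fun n : ↥⁅N, N⁆ => (χ : G → ℂ) n) = (χ : G → ℂ) 1 • fun _ : ↥⁅N, N⁆ => (1 : ℂ) from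
      funext fun n => by simp [hc n n.2], classInner_smul_left,
      classInner_irr_ne (χ := ⟨_, isIrrCharacter_one⟩) (ψ := ⟨_, hfc⟩)
        fun h => hf1 (MonoidHom.ext fun x => Units.ext (congrFun (congrArg Subtype.val h) x).symm),
      mul_zero]
  obtain ⟨a, ρ, hρ, hρθ⟩ := θ.2
  have haN : (θ : N → ℂ) 1 = (a : ℂ) := by
    rw [← hρθ, Representation.char_one, Module.finrank_fin_fun]
  obtain ⟨hcN, -⟩ := ratio_dvd_index N χ.2 θ.2 hθ (Block.charDegree_eq χ).1 haN
  have haL : a ∣ L.index := by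
    have hd : classInner (fun x : L => (θ : N → ℂ) x) (fun x : L => fc (e x)) ≠ 0 := by
      have h := classInner_equiv e (fun x => (θ : N → ℂ) (Subgroup.inclusion hLN x)) fc
      rw [← h] at hθf
      exact hθf
    have := ratio_dvd_index L θ.2
      (isIrrCharacter_comp_surjective hfc e.toMonoidHom e.surjective) hd (c := a) (d := 1) haN
      (by simp [fc])
    simpa using this.2
  have ha1 : a = 1 := by
    by_contra ha
    obtain ⟨q, hq, hqa⟩ := Nat.exists_prime_and_dvd ha
    exact hall _ ⟨χ, hrel, rfl⟩ q hq (hqa.trans haL) (hqa.trans hcN)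
  subst ha1
  apply hθf
  have hlin : ∀ x : ↥⁅N, N⁆, (θ : N → ℂ) (Subgroup.inclusion hLN x) = 1 := by
    intro x
    have hx : Subgroup.inclusion hLN x ∈ (detHom ρ).ker := by
      refine Abelianization.commutator_subset_ker (detHom ρ) ?_
      obtain ⟨y, hy, hyx⟩ := (Subgroup.map_subtype_commutator N).ge x.2
      rwa [show Subgroup.inclusion hLN x = y from Subtype.ext hyx.symm]
    rw [← hρθ, ← det_eq_trace_of_one N ρ, MonoidHom.mem_ker.1 hx, Units.val_one]
  simp only [hlin]
  exact classInner_irr_ne (χ := ⟨_, isIrrCharacter_one⟩) (ψ := ⟨_, hfc⟩)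
    fun h => hf1 (MonoidHom.ext fun x => Units.ext (congrFun (congrArg Subtype.val h) x).symm)

/-- An irreducible character of degree other than one is nontrivial on the derived subgroup. -/
theorem nontrivial_on_derived {χ : IrrCharacter G} {a : ℕ} (ρ : Representation ℂ N (Fin a → ℂ))
    [ρ.IsIrreducible] (hcon : classInner (fun n : N => (χ : G → ℂ) n) ρ.character ≠ 0)
    (ha : a ≠ 1) : ∃ x ∈ ⁅N, N⁆, (χ : G → ℂ) x ≠ (χ : G → ℂ) 1 := by
  classical
  by_contra hc
  push Not at hc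
  let θ : IrrCharacter N := ⟨ρ.character, a, ρ, inferInstance, rfl⟩
  have := Fintype.ofFinite ↥(⁅N, N⁆.subgroupOf N)
  have h1 := RamifiedFrobenius.degree_one_of_const (⁅N, N⁆.subgroupOf N)
    (fun x y => Subgroup.mem_subgroupOf.2 (Subgroup.commutator_mem_commutator x.2 y.2)) θ
    (fun n g => by
      have hn := Subgroup.mem_subgroupOf.1 n.2
      have hk : (θ : N → ℂ) n = (θ : N → ℂ) 1 :=
        constituent_kernel (isCharacter_comp (isCharacter_irr χ) N.subtype) θ hcon (hc _ hn)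
      show ρ.character ((n : N) * g) = ρ.character g
      have hk' : ρ.character (n : N) = (Module.finrank ℂ (Fin a → ℂ) : ℂ) := by
        rw [← Representation.char_one ρ]
        exact hk
      rw [Representation.character, map_mul, (char_eq_degree_iff ρ _).1 hk']
      rfl)
  apply ha
  change ρ.character 1 = 1 at h1
  rw [Representation.char_one, Module.finrank_fin_fun] at h1
  exact_mod_cast h1

/-- The degree is divisible by the orbit length of a good character. -/
def GoodDvd (d : ℕ) : Prop :=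
  ∃ q : ℕ, q.Prime ∧ q ∣ ⁅N, N⁆.relIndex N ∧ ∃ μ : N →* ℂˣ, Good N q μ ∧ (stab N μ).index ∣ d

/-- A degree over a nontrivial linear character, free of the primes of the index, lies over a
good character. -/
theorem goodDvd_of_linear {e : ℕ} (ρ : Representation ℂ N (Fin 1 → ℂ)) (hne : ρ.character ≠ fun _ => 1)
    (hi : (inertia N ρ.character).index ∣ e)
    (hdet : ∀ k : ℕ, (∀ (g : G) (n : N), (detHom ρ ^ k) (normalConjHom N g n) = (detHom ρ ^ k) n) →
        (detHom ρ ^ k) ^ e = 1)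
    (hfree : ∀ q : ℕ, q.Prime → q ∣ ⁅N, N⁆.relIndex N → ¬ q ∣ e) : GoodDvd N e := by
  set f := detHom ρ with hf
  have hfρ : ρ.character = fun n => (f n : ℂ) := funext fun n => (det_eq_trace_of_one N ρ n).symm
  have hfne : f ≠ 1 := fun h => hne (by rw [hfρ, h]; simp)
  set m := ⁅N, N⁆.relIndex N with hm
  have hfm : f ^ m = 1 := MonoidHom.ext fun n => by
    rw [MonoidHom.pow_apply, ← map_pow, MonoidHom.one_apply]
    refine MonoidHom.mem_ker.1 (Abelianization.commutator_subset_ker f ?_)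
    have heq : ⁅N, N⁆.subgroupOf N = commutator ↥N := by
      rw [Subgroup.subgroupOf, ← Subgroup.map_subtype_commutator,
        Subgroup.comap_map_eq_self_of_injective N.subtype_injective]
    rw [← heq, hm, Subgroup.relIndex, heq]
    exact Subgroup.pow_index_mem _ n
  -- some primary part is nontrivial
  obtain ⟨q, hq, hqf⟩ := Nat.exists_prime_and_dvd
    (show orderOf f ≠ 1 from fun h => hfne (orderOf_eq_one_iff.1 h))
  have hqm : q ∣ m := hqf.trans (orderOf_dvd_of_pow_eq_one (G := N →* ℂˣ) hfm)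
  have ho : 0 < orderOf f := Nat.pos_of_ne_zero fun h => by
    have hm0 : m ≠ 0 := Subgroup.index_ne_zero_of_finite
    have := orderOf_dvd_of_pow_eq_one (G := N →* ℂˣ) hfm
    rw [h] at this
    exact hm0 (Nat.eq_zero_of_zero_dvd this)
  set k := ordCompl[q] (orderOf f) with hk
  set μ := f ^ k with hμ
  have hμ1 : μ ≠ 1 := fun h => by
    have h1 : orderOf f ∣ k := orderOf_dvd_of_pow_eq_one h
    exact Nat.not_dvd_ordCompl hq ho.ne' (hqf.trans h1)
  have hμq : μ ^ q ^ (orderOf f).factorization q = 1 := by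
    rw [hμ, hom_pow_mul, hk, mul_comm, Nat.ordProj_mul_ordCompl_eq_self, pow_orderOf_eq_one]
  have hdvd : (stab N μ).index ∣ e :=
    (Subgroup.index_dvd_of_le ((inertia_le_stab_det N ρ).trans (stab_le_pow N f k))).trans hi
  refine ⟨q, hq, hqm, μ, ⟨⟨hμ1, _, hμq⟩, fun h => hμ1 ?_, fun h => hfree q hq hqm (h.trans hdvd)⟩, hdvd⟩
  exact hom_eq_one N μ (hdet k (invariant_of_index_eq_one N μ h)) hμq
    ((hq.coprime_iff_not_dvd.2 (hfree q hq hqm)).symm.pow_right _)

end CfsgLib.DegComp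

namespace CfsgLib.DegComp

open Cfsg CfsgLib CfsgLib.Char Representation

universe u

variable {G : Type u} [Group G] [Fintype G]

/-- In a disconnected graph two degrees outside the component of a third are at most two steps
apart. -/
theorem twoStep_of_not_linked : ∀ (n : ℕ) (N : Subgroup G) [N.Normal] [Group.IsSolvable N],
    Nat.card N = n → N ≤ commutator G → ∀ x b c : ℕ, x ∈ relCharDegrees N → b ∈ relCharDegrees N →
      c ∈ relCharDegrees N → ¬ Linked N x b → ¬ Linked N x c → TwoStep N b c := by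
  intro n
  induction n using Nat.strong_induction_on with
  | _ n ih =>
  intro N _ _ hn hNG x b c hx hb hc hxb hxc
  classical
  have := Fintype.ofFinite N
  have hN : N ≠ ⊥ := by
    rintro rfl
    obtain ⟨χ, ⟨y, hy, hne⟩, -⟩ := hx
    exact hne (by rw [Subgroup.mem_bot.1 hy])
  have hlt := derived_lt N hN
  obtain ⟨p, hp, hpd⟩ := Nat.exists_prime_and_dvd
    (fun h => hlt.not_ge (Subgroup.relIndex_eq_one.1 h) : ⁅N, N⁆.relIndex N ≠ 1)
  by_cases hpx : p ∣ x
  swap
  · rcases exactly_one N hNG hp hpd hx hb hxb with ⟨h, -, -⟩ | ⟨hpb, -, -⟩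
    · exact absurd h hpx
    rcases exactly_one N hNG hp hpd hx hc hxc with ⟨h, -, -⟩ | ⟨hpc, -, -⟩
    · exact absurd h hpx
    exact Or.inl ⟨p, hp.ne_one, hpb, hpc⟩
  -- outside the component of `x` the primes of the index do not occur
  have hfree : ∀ d ∈ relCharDegrees N, ¬ Linked N x d → ∀ q : ℕ, q.Prime →
      q ∣ ⁅N, N⁆.relIndex N → ¬ q ∣ d := by
    intro d hd hxd q hq hqd
    rcases exactly_one N hNG hp hpd hx hd hxd with ⟨-, -, hm⟩ | ⟨-, h, -⟩
    swap
    · exact absurd hpx h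
    rcases exactly_one N hNG hq hqd hx hd hxd with ⟨-, h, -⟩ | ⟨-, hqx, hm'⟩
    · exact h
    · exact absurd (moved_linked_ne N hNG hq hp (fun e => hqx (e ▸ hpx)) hm' hm) hxd
  -- a degree over a good character is two steps from everything
  have near : ∀ d e : ℕ, d ∈ relCharDegrees N → e ∈ relCharDegrees N → ¬ Linked N x e →
      GoodDvd N d → TwoStep N d e := by
    intro d e hd he hxe ⟨q, hq, hqd, μ, hμ, hμd⟩
    rcases good_or_shared N hNG hq he (hfree e he hxe q hq hqd) μ hμ.1 with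
      ⟨ν, hν, hνe⟩ | ⟨d', hd', hs, hi, -⟩
    · exact twoStep_of_good N hNG hq hq hμ hν hμd hνe
    · exact Or.inr ⟨d', hd', ⟨_, hμ.2.1, hμd, hi⟩, Share.symm hs⟩
  -- otherwise the degree belongs to the derived subgroup
  have down : ∀ d ∈ relCharDegrees N, ¬ Linked N x d → GoodDvd N d ∨ d ∈ relCharDegrees ⁅N, N⁆ := by
    intro d hd hxd
    obtain ⟨χ, hrel, rfl⟩ := hd
    obtain ⟨a, ρ, hρ, hne, hcon, e, he, hi, hdet⟩ := exists_under_char N hNG χ hrel
    by_cases ha : a = 1
    · subst ha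
      rw [one_mul] at he
      rw [he]
      exact Or.inl (goodDvd_of_linear N ρ hne hi hdet
        (he ▸ hfree _ ⟨χ, hrel, rfl⟩ hxd))
    · exact Or.inr ⟨χ, nontrivial_on_derived N ρ hcon ha, rfl⟩
  rcases down b hb hxb with hgb | hbL
  · exact near b c hb hc hxc hgb
  rcases down c hc hxc with hgc | hcL
  · rcases near c b hc hb hxb hgc with h | ⟨m, hm, h1, h2⟩
    · exact Or.inl h.symm
    · exact Or.inr ⟨m, hm, h2.symm, h1.symm⟩
  -- induction
  have hL0 : ⁅N, N⁆ ≠ ⊥ := fun h => by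
    obtain ⟨χ, ⟨y, hy, hne⟩, -⟩ := hbL
    rw [h] at hy
    exact hne (by rw [Subgroup.mem_bot.1 hy])
  haveI : Group.IsSolvable ↥⁅N, N⁆ :=
    Group.isSolvable_of_isSolvable_injective (Subgroup.inclusion_injective hlt.le)
  obtain ⟨x', hx', q, hq, hqd, hqx'⟩ := exists_derived_degree N hNG hL0
  have hnl : ∀ d : ℕ, d ∈ relCharDegrees ⁅N, N⁆ → ¬ Linked N x d → ¬ Linked ⁅N, N⁆ x' d := by
    intro d hd hxd h
    have hl : Linked N x' d := linked_mono hlt.le h
    have hxx' : Linked N x x' := by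
      by_contra h'
      exact hfree x' hl.1 h' q hq hqd hqx'
    exact hxd (hxx'.trans hl)
  have hsmall : Nat.card ↥⁅N, N⁆ < n := by
    rw [← hn]
    exact lt_of_le_of_ne (Subgroup.card_le_of_le hlt.le) fun e =>
      hlt.ne (Subgroup.eq_of_le_of_card_ge hlt.le e.ge)
  exact TwoStep.mono hlt.le (ih _ hsmall ⁅N, N⁆ rfl (hlt.le.trans hNG) x' b c hx' hbL hcL
    (hnl b hbL hxb) (hnl c hcL hxc))

/-- Two distinct degrees two steps apart are adjacent or have a common neighbour. -/
theorem adj_of_share {N : Subgroup G} [N.Normal] {a b : ↥(relCharDegrees N)} (h : Share a.1 b.1) (hne : a ≠ b) :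
    (commonDivisorGraph.induce (relCharDegrees N)).Adj a b := by
  obtain ⟨m, hm, h1, h2⟩ := h
  refine ⟨fun e => hne (Subtype.ext e), ?_⟩
  have h0 : 0 < Nat.gcd a.1 b.1 := Nat.gcd_pos_of_pos_left _ (pos_of_mem a.2)
  have h3 : Nat.gcd a.1 b.1 ≠ 1 := fun h => hm (Nat.dvd_one.1 (h ▸ Nat.dvd_gcd h1 h2))
  show 1 < Nat.gcd a.1 b.1
  omega

theorem exists_complete_component (N : Subgroup G) [N.Normal] [Group.IsSolvable N]
    (hNG : N ≤ commutator G)
    (hdisc : ¬ (commonDivisorGraph.induce (relCharDegrees N)).Preconnected) :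
    ∃ a₀ : ↥(relCharDegrees N),
      (∀ b c : ↥(relCharDegrees N), (commonDivisorGraph.induce (relCharDegrees N)).Reachable a₀ b →
        (commonDivisorGraph.induce (relCharDegrees N)).Reachable a₀ c → b ≠ c →
        (commonDivisorGraph.induce (relCharDegrees N)).Adj b c) ∧
      ∀ b c : ↥(relCharDegrees N), ¬ (commonDivisorGraph.induce (relCharDegrees N)).Reachable a₀ b →
        ¬ (commonDivisorGraph.induce (relCharDegrees N)).Reachable a₀ c → b ≠ c →
        (commonDivisorGraph.induce (relCharDegrees N)).Adj b c ∨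
        ∃ d : ↥(relCharDegrees N), (commonDivisorGraph.induce (relCharDegrees N)).Adj b d ∧
          (commonDivisorGraph.induce (relCharDegrees N)).Adj d c := by
  classical
  have := Fintype.ofFinite N
  obtain ⟨x, y, hxy⟩ : ∃ x y, ¬ (commonDivisorGraph.induce (relCharDegrees N)).Reachable x y := by
    simpa [SimpleGraph.Preconnected] using hdisc
  have hN : N ≠ ⊥ := by
    rintro rfl
    obtain ⟨χ, ⟨z, hz, hne⟩, -⟩ := x.2
    exact hne (by rw [Subgroup.mem_bot.1 hz])
  obtain ⟨p, hp, hpd⟩ := Nat.exists_prime_and_dvd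
    (fun h => (derived_lt N hN).not_ge (Subgroup.relIndex_eq_one.1 h) : ⁅N, N⁆.relIndex N ≠ 1)
  wlog hpx : p ∣ x.1 generalizing x y
  · rcases exactly_one N hNG hp hpd x.2 y.2 (fun ⟨_, _, h⟩ => hxy h) with ⟨h, -, -⟩ | ⟨h, -, -⟩
    · exact absurd h hpx
    · exact this y x (fun h' => hxy h'.symm) h
  refine ⟨x, fun b c hb hc hbc => ?_, fun b c hb hc hbc => ?_⟩
  · have key : ∀ d : ↥(relCharDegrees N),
        (commonDivisorGraph.induce (relCharDegrees N)).Reachable x d → p ∣ d.1 := by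
      intro d hd
      rcases exactly_one N hNG hp hpd d.2 y.2 (fun ⟨_, _, h⟩ => hxy (hd.trans h)) with
        ⟨h, -, -⟩ | ⟨h, -, -⟩
      · exact h
      · exact absurd ((linked_of_dvd x.2 y.2 hp.ne_one hpx h).2.2) hxy
    exact adj_of_share ⟨p, hp.ne_one, key b hb, key c hc⟩ hbc
  · rcases twoStep_of_not_linked _ N rfl hNG x.1 b.1 c.1 x.2 b.2 c.2 (fun ⟨_, _, h⟩ => hb h)
      (fun ⟨_, _, h⟩ => hc h) with h | ⟨d, hd, h1, h2⟩
    · exact Or.inl (adj_of_share h hbc)
    · by_cases hs : Share b.1 c.1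
      · exact Or.inl (adj_of_share hs hbc)
      refine Or.inr ⟨⟨d, hd⟩, adj_of_share h1 fun e => ?_, adj_of_share h2 fun e => ?_⟩
      · exact hs (e ▸ h2)
      · exact hs (e ▸ h1)

end CfsgLib.DegComp
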